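import Groth.Agent.Lib.Rigidity.Relative.Hom
import Groth.Agent.Lib.Rigidity.AbImage
import Mathlib.AlgebraicGeometry.Geometrically.Connected
import Mathlib.AlgebraicGeometry.Fiber

/-!
Smooth group schemes with connected fibres have geometrically connected, geometrically reduced fibres.
-/

universe u

open CategoryTheory Limits AlgebraicGeometry
open MonoidalCategory CartesianMonoidalCategory MonObj

namespace GrothLib.Rigidity

variable {S : Scheme.{u}}

theorem geometricallyReduced_of_smooth' {X : Scheme.{u}} (f : X ⟶ S) [Smooth f] : GeometricallyReduced f := by
  have h : ∀ s, GeometricallyReduced (f.fiberToSpecResidueField s) := fun s => by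
    have : Smooth (f.fiberToSpecResidueField s) :=
      inferInstanceAs (Smooth (pullback.snd f (S.fromSpecResidueField s)))
    exact @geometricallyReduced_of_smooth (S.residueField s) _ _ (f.fiberToSpecResidueField s) this
  simp only [GeometricallyReduced.eq_geometrically] at h ⊢
  exact (geometrically_iff_forall_fiberToSpecResidueField).2 h

theorem geometricallyIntegral_fiber (A : Over S) [GrpObj A] [Smooth A.hom] (s : S)
    [hs : ConnectedSpace ↥(A.hom.fiber s)] : GeometricallyIntegral (A.hom.fiberToSpecResidueField s) := by
  let P := Over.pullback (S.fromSpecResidueField s : Spec (CommRingCat.of (S.residueField s)) ⟶ S)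
  let A' : Over (Spec (CommRingCat.of (S.residueField s))) := P.obj A
  let _ : GrpObj A' := Functor.grpObjObj
  have : Smooth A'.hom := inferInstanceAs (Smooth (pullback.snd A.hom (S.fromSpecResidueField s)))
  have : GeometricallyReduced A'.hom := geometricallyReduced_of_smooth _
  have : ConnectedSpace A'.left := hs
  exact geometricallyIntegral_of_connected A'

theorem geometricallyConnected_of_connected_fibers (A : Over S) [GrpObj A] [Smooth A.hom]
    (hA : ∀ s : S, ConnectedSpace ↥(A.hom.fiber s)) : GeometricallyConnected A.hom := by
  rw [GeometricallyConnected.iff_geometricallyConnected_fiber]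
  intro s
  have := hA s
  have := geometricallyIntegral_fiber A s
  exact geometricallyConnected_of_geometricallyIrreducible _

end GrothLib.Rigidity
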