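import Groth.Agent.Lib.Rigidity.Relative.Descent
import Groth.Agent.Lib.GrpSchField.Points
import Mathlib.AlgebraicGeometry.Geometrically.Integral
import Mathlib.AlgebraicGeometry.Morphisms.QuasiFinite

/-!
# Rigidity for morphisms to group schemes over an arbitrary base
-/

universe u

open CategoryTheory Limits AlgebraicGeometry
open MonoidalCategory CartesianMonoidalCategory MonObj

namespace GrothLib.Rigidity

theorem geometricallyConnected_of_geometricallyIrreducible {X S : Scheme.{u}} (f : X ⟶ S)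
    [GeometricallyIrreducible f] : GeometricallyConnected f :=
  ⟨fun K _ y Z fst snd h =>
    haveI : IrreducibleSpace Z := GeometricallyIrreducible.geometrically_irreducibleSpace _ _ _ h
    inferInstance⟩

variable {S : Scheme.{u}} {V W G : Over S}

theorem toUnit_comp_one' [GrpObj G] {T : Over S} : toUnit T ≫ η[G] = (1 : T ⟶ G) :=
  (Hom.one_def).symm

theorem toUnit_left (T : Over S) : (toUnit T).left = T.hom := by
  have h := Over.w (toUnit T)
  exact (Category.comp_id _).symm.trans h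

theorem left_apply_hom {T U : Over S} (φ : T ⟶ U) (t : T.left) : U.hom (φ.left t) = T.hom t := by
  rw [← Scheme.Hom.comp_apply, Over.w]

/-- A morphism out of `V ⊗ W` sending a slice to a point is pulled back from `W`, if all fibres of
`V` and `W` are connected. -/
theorem eq_snd_comp_of_slice [IsProper V.hom] [Flat V.hom] [LocallyOfFinitePresentation V.hom]
    [GeometricallyConnected V.hom] [GeometricallyReduced V.hom] [GeometricallyConnected W.hom]
    [IsSeparated G.hom] (d : V ⊗ W ⟶ G) (v₀ : 𝟙_ (Over S) ⟶ V) (w₀ : 𝟙_ (Over S) ⟶ W)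
    (g₀ : 𝟙_ (Over S) ⟶ G) (hd : lift (𝟙 V) (toUnit V ≫ w₀) ≫ d = toUnit V ≫ g₀) :
    d = snd V W ≫ lift (toUnit W ≫ v₀) (𝟙 W) ≫ d := by
  set g := (snd V W).left with hg
  haveI : IsProper g := inferInstanceAs (IsProper (pullback.snd V.hom W.hom))
  haveI : Flat g := inferInstanceAs (Flat (pullback.snd V.hom W.hom))
  haveI : LocallyOfFinitePresentation g :=
    inferInstanceAs (LocallyOfFinitePresentation (pullback.snd V.hom W.hom))
  haveI : GeometricallyConnected g :=
    inferInstanceAs (GeometricallyConnected (pullback.snd V.hom W.hom))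
  haveI : GeometricallyReduced g :=
    inferInstanceAs (GeometricallyReduced (pullback.snd V.hom W.hom))
  set σ := (lift (toUnit W ≫ v₀) (𝟙 W)).left with hσ
  have hσg : σ ≫ g = 𝟙 W.left := by
    rw [hσ, hg, ← Over.comp_left, lift_snd, Over.id_left]
  obtain ⟨C, hCc, hCiff, hCeq⟩ := exists_isClopen_factor_of_section g σ hσg W.hom G.hom d.left
    ((Over.w d).trans (Over.w (snd V W)).symm)
  -- `C` contains the section `w₀`
  have hmem : ∀ s : S, w₀.left s ∈ C := by
    intro s
    rw [← hCiff]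
    suffices ∀ z, g z = w₀.left s → d.left z = g₀.left s by
      rintro _ ⟨z, hz, rfl⟩ _ ⟨z', hz', rfl⟩
      rw [this z hz, this z' hz']
    intro z hz
    set j := (lift (𝟙 V) (toUnit V ≫ w₀)).left with hj
    have hw₀ : w₀.left ≫ W.hom = 𝟙 S := Over.w w₀
    have hj₁ : j ≫ pullback.fst V.hom W.hom = 𝟙 V.left := by
      show (lift (𝟙 V) (toUnit V ≫ w₀)).left ≫ (fst V W).left = _
      rw [← Over.comp_left, lift_fst, Over.id_left]
    have hj₂ : j ≫ g = V.hom ≫ w₀.left := by
      rw [hj, hg, ← Over.comp_left, lift_snd, Over.comp_left, toUnit_left]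
    have hsq : IsPullback j V.hom g w₀.left := by
      refine IsPullback.of_right ?_ hj₂
        (show IsPullback (pullback.fst V.hom W.hom) g V.hom W.hom from IsPullback.of_hasPullback _ _)
      rw [hj₁, hw₀]
      exact IsPullback.of_horiz_isIso ⟨by simp⟩
    obtain ⟨v, hv₁, hv₂⟩ := Scheme.exists_preimage_of_isPullback hsq z s hz
    rw [← hv₁, hj, ← Scheme.Hom.comp_apply, ← Over.comp_left, hd, Over.comp_left, toUnit_left,
      Scheme.Hom.comp_apply, hv₂]
  -- connected fibres: `C` is everything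
  have hall : ∀ w : W.left, w ∈ C := by
    intro w
    have hconn := W.hom.isConnected_preimage_singleton (W.hom w)
    have hclopen : IsClopen (C : Set W.left) := ⟨hCc, C.2⟩
    exact hconn.2.subset_isClopen hclopen
      ⟨w₀.left (W.hom w), by
        show W.hom (w₀.left (W.hom w)) = W.hom w
        rw [left_apply_hom w₀]; rfl, hmem _⟩ rfl
  have htop : (g ⁻¹ᵁ C) = ⊤ := eq_top_iff.mpr fun z _ => hall (g z)
  haveI : IsIso (g ⁻¹ᵁ C).ι := by
    rw [htop, ← Scheme.topIso_hom]
    infer_instance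
  ext1
  rw [← cancel_epi (g ⁻¹ᵁ C).ι, hCeq]
  simp only [hg, hσ, Over.comp_left]

/-- A morphism `V ⊗ W ⟶ G` is the product of its restrictions to the two axes. -/
theorem eq_mul_of_slices' [IsProper V.hom] [Flat V.hom] [LocallyOfFinitePresentation V.hom]
    [GeometricallyConnected V.hom] [GeometricallyReduced V.hom] [GeometricallyConnected W.hom]
    [GrpObj G] [IsSeparated G.hom] (h : V ⊗ W ⟶ G) (v₀ : 𝟙_ (Over S) ⟶ V) (w₀ : 𝟙_ (Over S) ⟶ W)
    (h0 : lift v₀ w₀ ≫ h = η[G]) :
    h = (fst V W ≫ lift (𝟙 V) (toUnit V ≫ w₀) ≫ h) * (snd V W ≫ lift (toUnit W ≫ v₀) (𝟙 W) ≫ h) := by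
  set p : V ⟶ G := lift (𝟙 V) (toUnit V ≫ w₀) ≫ h with hp
  set q : W ⟶ G := lift (toUnit W ≫ v₀) (𝟙 W) ≫ h with hq
  have hp0 : v₀ ≫ p = η[G] := by
    rw [hp, ← h0, comp_lift_assoc, Category.comp_id]
    congr 2
    rw [← Category.assoc, Subsingleton.elim (v₀ ≫ toUnit V) (𝟙 _), Category.id_comp]
  have hq0 : w₀ ≫ q = η[G] := by
    rw [hq, ← h0, comp_lift_assoc, Category.comp_id]
    congr 2
    rw [← Category.assoc, Subsingleton.elim (w₀ ≫ toUnit W) (𝟙 _), Category.id_comp]
  let d := h * ((fst V W ≫ p) * (snd V W ≫ q))⁻¹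
  suffices hd : d = 1 by
    have := eq_inv_of_mul_eq_one_left hd
    rwa [_root_.inv_inv] at this
  have hVd : lift (𝟙 V) (toUnit V ≫ w₀) ≫ d = toUnit V ≫ η[G] := by
    simp only [d, MonObj.comp_mul, GrpObj.comp_inv, lift_fst_assoc, lift_snd_assoc, Category.id_comp,
      Category.assoc, hq0, toUnit_comp_one', _root_.mul_one]
    rw [← hp, _root_.mul_inv_cancel]
  have hg := eq_snd_comp_of_slice d v₀ w₀ η[G] hVd
  have hWd : lift (toUnit W ≫ v₀) (𝟙 W) ≫ d = toUnit W ≫ η[G] := by
    simp only [d, MonObj.comp_mul, GrpObj.comp_inv, lift_fst_assoc, lift_snd_assoc, Category.id_comp,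
      Category.assoc, hp0, toUnit_comp_one', _root_.one_mul]
    rw [← hq, _root_.mul_inv_cancel]
  rw [hg, hWd, toUnit_comp_one', MonObj.comp_one]

/-- A pointed morphism from an abelian scheme to a separated group scheme is a homomorphism. -/
theorem isMonHom_of_one_comp' [GrpObj V] [IsProper V.hom] [Flat V.hom]
    [LocallyOfFinitePresentation V.hom] [GeometricallyConnected V.hom] [GeometricallyReduced V.hom]
    [GrpObj G] [IsSeparated G.hom] (f : V ⟶ G) (hf : η[V] ≫ f = η[G]) : IsMonHom f := by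
  refine GrothLib.GrpSchField.isMonHom_of_mul f ?_
  have h0 : lift η[V] η[V] ≫ μ[V] ≫ f = η[G] := by
    rw [← Category.assoc, show lift η[V] η[V] ≫ μ[V] = η[V] by
      simpa using lift_comp_one_right (f := η[V]) (g := 𝟙 _), hf]
  rw [eq_mul_of_slices' (μ[V] ≫ f) η[V] η[V] h0]
  have h1 : lift (𝟙 V) (toUnit V ≫ η[V]) ≫ μ[V] = 𝟙 V := by
    rw [← Hom.mul_def, toUnit_comp_one', _root_.mul_one]
  have h2 : lift (toUnit V ≫ η[V]) (𝟙 V) ≫ μ[V] = 𝟙 V := by
    rw [← Hom.mul_def, toUnit_comp_one', _root_.one_mul]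
  rw [reassoc_of% h1, reassoc_of% h2, Hom.mul_def]
  congr 1

end GrothLib.Rigidity
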