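import Groth.Agent.Lib.Rigidity.Relative.FibrewiseIsoAlg
import Mathlib.AlgebraicGeometry.ZariskisMainTheorem
import Mathlib.AlgebraicGeometry.Morphisms.Flat
import Mathlib.AlgebraicGeometry.Morphisms.FinitePresentation
import Mathlib.AlgebraicGeometry.PullbackCarrier

/-!
# A proper flat scheme mapping isomorphically on geometric fibres
-/

universe u

open CategoryTheory Limits AlgebraicGeometry TopologicalSpace

namespace GrothLib.Rigidity

variable {P Q T : Scheme.{u}} (p : P ⟶ T) (q : Q ⟶ T) (f : P ⟶ Q)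

theorem exists_geometric_point {T : Scheme.{u}} (t : T) :
    ∃ (K : Type u) (_ : Field K) (_ : IsAlgClosed K) (y : Spec (CommRingCat.of K) ⟶ T),
      ∀ pt, y pt = t :=
  ⟨AlgebraicClosure (T.residueField t), inferInstance, inferInstance,
    Spec.map (CommRingCat.ofHom (algebraMap (T.residueField t) (AlgebraicClosure (T.residueField t)))) ≫
      T.fromSpecResidueField t,
    fun pt => by rw [Scheme.Hom.comp_apply, Scheme.fromSpecResidueField_apply]⟩

theorem injective_of_forall_geometric_fibre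
    (hfib : ∀ (K : Type u) [Field K] [IsAlgClosed K] (y : Spec (CommRingCat.of K) ⟶ T),
      IsIso (pullback.snd f (pullback.fst q y))) : Function.Injective f := by
  intro x x' hxx'
  obtain ⟨K, _, _, y, hy⟩ := exists_geometric_point (q (f x))
  obtain ⟨z, hz, -⟩ := Scheme.Pullback.exists_preimage_pullback (f := q) (g := y) (f x)
    (IsLocalRing.closedPoint K) (hy _).symm
  haveI := hfib K y
  obtain ⟨a, ha, ha'⟩ := Scheme.Pullback.exists_preimage_pullback (f := f) (g := pullback.fst q y) x z hz.symm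
  obtain ⟨b, hb, hb'⟩ := Scheme.Pullback.exists_preimage_pullback (f := f) (g := pullback.fst q y) x' z
    (hxx'.symm.trans hz.symm)
  have hab : a = b := (pullback.snd f (pullback.fst q y)).homeomorph.injective (ha'.trans hb'.symm)
  rw [← ha, ← hb, hab]

/-- A morphism from a proper flat scheme which is an isomorphism on all geometric fibres is an
isomorphism. -/
theorem isIso_of_forall_geometric_fibre [IsProper p] [Flat p] [LocallyOfFinitePresentation p]
    [IsSeparated q] [LocallyOfFiniteType q] (w : f ≫ q = p)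
    (hfib : ∀ (K : Type u) [Field K] [IsAlgClosed K] (y : Spec (CommRingCat.of K) ⟶ T),
      IsIso (pullback.snd f (pullback.fst q y))) : IsIso f := by
  subst w
  haveI : IsProper f := IsProper.of_comp f q
  have hinj := injective_of_forall_geometric_fibre q f hfib
  haveI : LocallyQuasiFinite f := by
    rw [locallyQuasiFinite_iff_isDiscrete_preimage_singleton]
    intro z
    have hss : (f ⁻¹' {z}).Subsingleton := fun a ha b hb => hinj (ha.trans hb.symm)
    exact hss.isDiscrete
  haveI : IsFinite f := IsFinite.of_isProper_of_locallyQuasiFinite f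
  have hex : ∀ z : Q, ∃ (U : Q.Opens) (V : T.Opens), IsAffineOpen U ∧ IsAffineOpen V ∧ U ≤ q ⁻¹ᵁ V ∧ z ∈ U := by
    intro z
    obtain ⟨_, ⟨V, hV, rfl⟩, hzV, -⟩ := T.isBasis_affineOpens.exists_subset_of_mem_open
      (Set.mem_univ (q z)) isOpen_univ
    obtain ⟨_, ⟨U, hU, rfl⟩, hzU, hUV⟩ := Q.isBasis_affineOpens.exists_subset_of_mem_open
      (show z ∈ ((q ⁻¹ᵁ V : Q.Opens) : Set Q) from hzV) (q ⁻¹ᵁ V).2
    exact ⟨U, V, hU, hV, hUV, hzU⟩
  choose U V hU hV hUV hzU using hex
  refine (IsZariskiLocalAtTarget.iff_of_iSup_eq_top (P := MorphismProperty.isomorphisms Scheme) U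
    (eq_top_iff.mpr fun z _ => Opens.mem_iSup.mpr ⟨z, hzU z⟩)).mpr fun z => ?_
  show IsIso (f ∣_ U z)
  have hW : IsAffineOpen (f ⁻¹ᵁ U z) := (hU z).preimage f
  have hWV : f ⁻¹ᵁ U z ≤ (f ≫ q) ⁻¹ᵁ V z := fun x hx => hUV z hx
  algebraize [(q.appLE (V z) (U z) (hUV z)).hom, ((f ≫ q).appLE (V z) (f ⁻¹ᵁ U z) hWV).hom]
  haveI : Algebra.FiniteType Γ(T, V z) Γ(Q, U z) := q.finiteType_appLE (hV z) (hU z) (hUV z)
  haveI : Algebra.FinitePresentation Γ(T, V z) Γ(P, f ⁻¹ᵁ U z) :=
    (f ≫ q).finitePresentation_appLE (hV z) hW hWV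
  haveI : Module.Flat Γ(T, V z) Γ(P, f ⁻¹ᵁ U z) := (f ≫ q).flat_appLE (hV z) hW hWV
  let φ : Γ(Q, U z) →ₐ[Γ(T, V z)] Γ(P, f ⁻¹ᵁ U z) :=
    { toRingHom := (f.app (U z)).hom
      commutes' := fun r => by
        show (q.appLE (V z) (U z) (hUV z) ≫ f.app (U z)) r = (f ≫ q).appLE (V z) (f ⁻¹ᵁ U z) hWV r
        rw [Scheme.Hom.app_eq_appLE, Scheme.Hom.appLE_comp_appLE] }
  have hbij : Function.Bijective φ := by
    refine bijective_of_forall_geometric_fibre φ ?_ fun K _ _ _ => ?_
    · exact (IsFinite.finite_app (f := f) (U := U z) (hU z))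
    let ψ := Algebra.TensorProduct.map (AlgHom.id Γ(T, V z) K) φ
    suffices IsIso (Spec.map (CommRingCat.ofHom ψ.toRingHom)) by
      haveI : IsIso (Scheme.Spec.map (CommRingCat.ofHom ψ.toRingHom).op) := this
      haveI : IsIso (CommRingCat.ofHom ψ.toRingHom).op := isIso_of_reflects_iso _ Scheme.Spec
      have hi : IsIso (CommRingCat.ofHom ψ.toRingHom) := isIso_of_op _
      exact (ConcreteCategory.bijective_of_isIso (CommRingCat.ofHom ψ.toRingHom) :)
    -- squares
    have sQ := isPullback_SpecMap_of_isPushout _ _ _ _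
      (CommRingCat.isPushout_tensorProduct Γ(T, V z) K Γ(Q, U z))
    have sP := isPullback_SpecMap_of_isPushout _ _ _ _
      (CommRingCat.isPushout_tensorProduct Γ(T, V z) K Γ(P, f ⁻¹ᵁ U z))
    let iQ := Spec.map (CommRingCat.ofHom
      (Algebra.TensorProduct.includeRight (R := Γ(T, V z)) (A := K) (B := Γ(Q, U z))).toRingHom)
    let iP := Spec.map (CommRingCat.ofHom
      (Algebra.TensorProduct.includeRight (R := Γ(T, V z)) (A := K) (B := Γ(P, f ⁻¹ᵁ U z))).toRingHom)
    have hsq : IsPullback iP (Spec.map (CommRingCat.ofHom ψ.toRingHom)) (Spec.map (f.app (U z))) iQ := by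
      have sQ' := sQ.flip
      have h1 : CommRingCat.ofHom (algebraMap Γ(T, V z) Γ(P, f ⁻¹ᵁ U z)) =
          CommRingCat.ofHom (algebraMap Γ(T, V z) Γ(Q, U z)) ≫ f.app (U z) :=
        CommRingCat.hom_ext (RingHom.ext fun r => (φ.commutes r).symm)
      have sP' := sP.flip
      have e1 : Spec.map (CommRingCat.ofHom ψ.toRingHom) ≫
          Spec.map (CommRingCat.ofHom Algebra.TensorProduct.includeLeftRingHom) =
          Spec.map (CommRingCat.ofHom Algebra.TensorProduct.includeLeftRingHom) := by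
        rw [← Spec.map_comp]
        congr 1
        ext k
        simp [ψ]
      have e2 : iP ≫ Spec.map (f.app (U z)) = Spec.map (CommRingCat.ofHom ψ.toRingHom) ≫ iQ := by
        rw [← Spec.map_comp, ← Spec.map_comp]
        congr 1
      refine IsPullback.of_bot ?_ e2 sQ'
      rw [e1, ← Spec.map_comp, ← h1]
      exact sP'
    have hf : IsPullback hW.fromSpec (Spec.map (f.app (U z))) f (hU z).fromSpec := by
      refine (IsOpenImmersion.isPullback _ _ _ _ ?_ ?_).flip
      · rw [Scheme.Hom.app_eq_appLE, IsAffineOpen.SpecMap_appLE_fromSpec]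
      · rw [IsAffineOpen.opensRange_fromSpec, IsAffineOpen.opensRange_fromSpec]
    have htot := hsq.paste_horiz hf
    -- the map to `Q` factors through the geometric fibre
    let y : Spec (CommRingCat.of K) ⟶ T :=
      Spec.map (CommRingCat.ofHom (algebraMap Γ(T, V z) K)) ≫ (hV z).fromSpec
    let l : Spec (CommRingCat.of (TensorProduct Γ(T, V z) K Γ(Q, U z))) ⟶ pullback q y :=
      pullback.lift (iQ ≫ (hU z).fromSpec)
        (Spec.map (CommRingCat.ofHom Algebra.TensorProduct.includeLeftRingHom)) (by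
          rw [Category.assoc, ← (hV z).SpecMap_appLE_fromSpec q (hU z) (hUV z)]
          show _ = _ ≫ Spec.map _ ≫ _
          rw [reassoc_of% sQ.w]
          rfl)
    have hl : l ≫ pullback.fst q y = iQ ≫ (hU z).fromSpec := pullback.lift_fst _ _ _
    haveI := hfib K y
    have hsq2 : IsPullback (pullback.fst f (pullback.fst q y)) (pullback.snd f (pullback.fst q y)) f
        (pullback.fst q y) := IsPullback.of_hasPullback _ _
    rw [← hl] at htot
    let m := hsq2.lift (iP ≫ hW.fromSpec) (Spec.map (CommRingCat.ofHom ψ.toRingHom) ≫ l)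
      (by rw [htot.w, Category.assoc])
    have h3 : IsPullback m (Spec.map (CommRingCat.ofHom ψ.toRingHom)) (pullback.snd f (pullback.fst q y)) l := by
      refine IsPullback.of_right ?_ (hsq2.lift_snd _ _ _) hsq2
      rw [hsq2.lift_fst]
      exact htot
    exact MorphismProperty.of_isPullback (P := MorphismProperty.isomorphisms Scheme) h3 ‹_›
  haveI : IsIso (f.app (U z)) := (ConcreteCategory.isIso_iff_bijective _).mpr hbij
  haveI : IsAffine (U z) := hU z
  haveI : IsAffine (f ⁻¹ᵁ U z) := hW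
  have hfac : f ∣_ U z = hW.isoSpec.hom ≫ Spec.map (f.app (U z)) ≫ (hU z).isoSpec.inv := by
    rw [← cancel_mono (U z).ι, morphismRestrict_ι, Category.assoc, Category.assoc,
      IsAffineOpen.isoSpec_inv_ι, Scheme.Hom.app_eq_appLE, IsAffineOpen.SpecMap_appLE_fromSpec _ (hU z) hW,
      IsAffineOpen.isoSpec_hom_fromSpec_assoc]
  rw [hfac]
  infer_instance

end GrothLib.Rigidity
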