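import Groth.Agent.Lib.Rigidity.Relative.Magma
import Groth.Agent.Lib.Rigidity.Relative.FibrewiseIso
import Groth.Agent.Lib.Rigidity.Relative.Hom
import Mathlib.CategoryTheory.Monoidal.Cartesian.Over

/-!
# A unital multiplication on a proper flat scheme with integral fibres is a group law
-/

universe u

open CategoryTheory Limits AlgebraicGeometry
open MonoidalCategory CartesianMonoidalCategory

namespace GrothLib.Rigidity

variable {S : Scheme.{u}} {X : Over S}

/-- The shear `(a, b) ↦ (a, a b)` of a unital magma is an isomorphism. -/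
theorem isIso_shear [IsProper X.hom] [Flat X.hom] [LocallyOfFinitePresentation X.hom]
    [GeometricallyIntegral X.hom] (e : 𝟙_ (Over S) ⟶ X) (m : X ⊗ X ⟶ X)
    (h₁ : lift (𝟙 X) (toUnit X ≫ e) ≫ m = 𝟙 X) (h₂ : lift (toUnit X ≫ e) (𝟙 X) ≫ m = 𝟙 X) :
    IsIso (lift (fst X X) m) := by
  let Ψ : X ⊗ X ⟶ X ⊗ X := lift (fst X X) m
  suffices IsIso Ψ.left by
    haveI : IsIso ((Over.forget S).map Ψ) := this
    exact isIso_of_reflects_iso Ψ (Over.forget S)
  haveI : IsProper (fst X X).left := inferInstanceAs (IsProper (pullback.fst X.hom X.hom))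
  haveI : Flat (fst X X).left := inferInstanceAs (Flat (pullback.fst X.hom X.hom))
  haveI : LocallyOfFinitePresentation (fst X X).left :=
    inferInstanceAs (LocallyOfFinitePresentation (pullback.fst X.hom X.hom))
  have hΨ : Ψ.left ≫ (fst X X).left = (fst X X).left := by
    rw [← Over.comp_left, lift_fst]
  refine isIso_of_forall_geometric_fibre (fst X X).left (fst X X).left Ψ.left hΨ fun K _ _ y => ?_
  let b : Spec (CommRingCat.of K) ⟶ S := y ≫ X.hom
  let V : Over (Spec (CommRingCat.of K)) := Over.mk (pullback.snd X.hom b)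
  let π : V.left ⟶ X.left := pullback.fst X.hom b
  have hπ : π ≫ X.hom = V.hom ≫ b := pullback.condition
  haveI : IsProper V.hom := inferInstanceAs (IsProper (pullback.snd X.hom b))
  haveI : GeometricallyIntegral V.hom := inferInstanceAs (GeometricallyIntegral (pullback.snd X.hom b))
  let κ : (V ⊗ V).left ⟶ (X ⊗ X).left :=
    pullback.lift (f := X.hom) (g := X.hom) (pullback.fst V.hom V.hom ≫ π) (pullback.snd V.hom V.hom ≫ π)
      (by rw [Category.assoc, Category.assoc, hπ, pullback.condition_assoc])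
  have hκ : κ ≫ (X ⊗ X).hom = (V ⊗ V).hom ≫ b := by
    show κ ≫ pullback.fst X.hom X.hom ≫ X.hom = (pullback.fst V.hom V.hom ≫ V.hom) ≫ b
    rw [pullback.lift_fst_assoc, Category.assoc, Category.assoc, hπ]
  let mV : V ⊗ V ⟶ V := Over.homMk
    (pullback.lift (κ ≫ m.left) (V ⊗ V).hom (by rw [Category.assoc, Over.w, hκ]))
    (pullback.lift_snd _ _ _)
  let eV : 𝟙_ (Over (Spec (CommRingCat.of K))) ⟶ V := Over.homMk
    (pullback.lift (b ≫ e.left) (𝟙 _) (by
      rw [Category.assoc, Over.w]
      simp))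
    (pullback.lift_snd _ _ _)
  let x0 : 𝟙_ (Over (Spec (CommRingCat.of K))) ⟶ V := Over.homMk
    (pullback.lift y (𝟙 _) (by simp [b]))
    (pullback.lift_snd _ _ _)
  have hmVfst : mV.left ≫ π = κ ≫ m.left := pullback.lift_fst _ _ _
  have heV : eV.left ≫ π = b ≫ e.left := pullback.lift_fst _ _ _
  have hx0 : x0.left ≫ π = y := pullback.lift_fst _ _ _
  have hκ₁ : κ ≫ (fst X X).left = (fst V V).left ≫ π := pullback.lift_fst _ _ _
  have hκ₂ : κ ≫ (snd X X).left = (snd V V).left ≫ π := pullback.lift_snd _ _ _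
  have key : ∀ (f g : V ⟶ V) (f' g' : X ⟶ X), f.left ≫ π = π ≫ f'.left → g.left ≫ π = π ≫ g'.left →
      (lift f g).left ≫ κ = π ≫ (lift f' g').left := fun f g f' g' hf hg => by
    apply pullback.hom_ext
    · show ((lift f g).left ≫ κ) ≫ (fst X X).left = (π ≫ (lift f' g').left) ≫ (fst X X).left
      rw [Category.assoc, hκ₁, ← Over.comp_left_assoc, lift_fst, Category.assoc, ← Over.comp_left, lift_fst, hf]
    · show ((lift f g).left ≫ κ) ≫ (snd X X).left = (π ≫ (lift f' g').left) ≫ (snd X X).left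
      rw [Category.assoc, hκ₂, ← Over.comp_left_assoc, lift_snd, Category.assoc, ← Over.comp_left, lift_snd, hg]
  have hconst : (toUnit V ≫ eV).left ≫ π = π ≫ (toUnit X ≫ e).left := by
    rw [Over.comp_left, Over.comp_left, Category.assoc, heV, toUnit_left, toUnit_left, reassoc_of% hπ]
  have hleft : ∀ (f g : V ⟶ V), f.left ≫ π = g.left ≫ π → f = g := fun f g h =>
    Over.OverMorphism.ext (pullback.hom_ext h ((Over.w f).trans (Over.w g).symm))
  have hV₁ : lift (𝟙 V) (toUnit V ≫ eV) ≫ mV = 𝟙 V := by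
    refine hleft _ _ ?_
    rw [Over.comp_left, Category.assoc, hmVfst, Over.id_left, Category.id_comp]
    have : (lift (𝟙 V) (toUnit V ≫ eV)).left ≫ κ = π ≫ (lift (𝟙 X) (toUnit X ≫ e)).left := key _ _ _ _ (by simp) hconst
    rw [reassoc_of% this, ← Over.comp_left, h₁, Over.id_left, Category.comp_id]
  have hV₂ : lift (toUnit V ≫ eV) (𝟙 V) ≫ mV = 𝟙 V := by
    refine hleft _ _ ?_
    rw [Over.comp_left, Category.assoc, hmVfst, Over.id_left, Category.id_comp]
    have : (lift (toUnit V ≫ eV) (𝟙 V)).left ≫ κ = π ≫ (lift (toUnit X ≫ e) (𝟙 X)).left := key _ _ _ _ hconst (by simp)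
    rw [reassoc_of% this, ← Over.comp_left, h₂, Over.id_left, Category.comp_id]
  let L : V ⟶ V := lift (toUnit V ≫ x0) (𝟙 V) ≫ mV
  haveI : IsIso L := isIso_leftTranslation eV mV hV₁ hV₂ x0
  haveI : IsIso L.left := inferInstanceAs (IsIso ((Over.forget _).map L))
  let j : V.left ⟶ (X ⊗ X).left := pullback.lift (f := X.hom) (g := X.hom) (V.hom ≫ y) π
    (by rw [Category.assoc, hπ])
  have hsq : IsPullback j V.hom (fst X X).left y :=
    IsPullback.of_right (h₁₂ := (snd X X).left) (v₁₃ := X.hom) (h₂₂ := X.hom)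
      (by
        show IsPullback (j ≫ pullback.snd X.hom X.hom) V.hom X.hom (y ≫ X.hom)
        rw [pullback.lift_snd]
        exact IsPullback.of_hasPullback X.hom b)
      (pullback.lift_fst _ _ _)
      (show IsPullback (pullback.snd X.hom X.hom) (pullback.fst X.hom X.hom) X.hom X.hom from
        (IsPullback.of_hasPullback _ _).flip)
  have hjm : j ≫ Ψ.left = L.left ≫ j := by
    apply pullback.hom_ext
    · show (j ≫ Ψ.left) ≫ (fst X X).left = (L.left ≫ j) ≫ (fst X X).left
      rw [Category.assoc, hΨ, Category.assoc, hsq.w, Over.w_assoc]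
    · show (j ≫ Ψ.left) ≫ (snd X X).left = (L.left ≫ j) ≫ (snd X X).left
      rw [Category.assoc, ← Over.comp_left, lift_snd, Category.assoc]
      show j ≫ m.left = L.left ≫ j ≫ pullback.snd X.hom X.hom
      rw [pullback.lift_snd, Over.comp_left, Category.assoc, hmVfst]
      have : (lift (toUnit V ≫ x0) (𝟙 V)).left ≫ κ = j := by
        apply pullback.hom_ext
        · show ((lift (toUnit V ≫ x0) (𝟙 V)).left ≫ κ) ≫ (fst X X).left = j ≫ pullback.fst X.hom X.hom
          rw [pullback.lift_fst, Category.assoc, hκ₁, ← Over.comp_left_assoc, lift_fst, Over.comp_left,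
            Category.assoc, hx0, toUnit_left]
        · show ((lift (toUnit V ≫ x0) (𝟙 V)).left ≫ κ) ≫ (snd X X).left = j ≫ pullback.snd X.hom X.hom
          rw [pullback.lift_snd, Category.assoc, hκ₂, ← Over.comp_left_assoc, lift_snd, Over.id_left,
            Category.id_comp]
      rw [reassoc_of% this]
  let ee := hsq.isoPullback
  have hee : ee.hom ≫ pullback.fst (fst X X).left y = j := hsq.isoPullback_hom_fst
  have hee' : ee.hom ≫ pullback.snd (fst X X).left y = V.hom := hsq.isoPullback_hom_snd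
  have htop : IsPullback j (L.left ≫ ee.hom) Ψ.left (pullback.fst (fst X X).left y) := by
    refine IsPullback.of_bot ?_ ?_ (IsPullback.of_hasPullback (fst X X).left y)
    · rw [hΨ, Category.assoc, hee', Over.w]
      exact hsq
    · rw [hjm, Category.assoc, hee]
  rw [← htop.isoPullback_inv_snd]
  infer_instance

/-- A unital multiplication on a proper flat scheme with geometrically integral fibres is a group
law. -/
theorem exists_grpObj_of_unital [IsProper X.hom] [Flat X.hom] [LocallyOfFinitePresentation X.hom]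
    [GeometricallyIntegral X.hom] (e : 𝟙_ (Over S) ⟶ X) (m : X ⊗ X ⟶ X)
    (h₁ : lift (𝟙 X) (toUnit X ≫ e) ≫ m = 𝟙 X) (h₂ : lift (toUnit X ≫ e) (𝟙 X) ≫ m = 𝟙 X) :
    ∃ h : GrpObj X, h.one = e ∧ h.mul = m := by
  haveI := isIso_shear e m h₁ h₂
  let D : X ⊗ X ⟶ X := inv (lift (fst X X) m) ≫ snd X X
  have re : ∀ {T : Over S} (a : T ⟶ X), lift a (toUnit T ≫ e) ≫ m = a := fun {T} a => by
    calc lift a (toUnit T ≫ e) ≫ m = a ≫ lift (𝟙 X) (toUnit X ≫ e) ≫ m := by
          rw [comp_lift_assoc, Category.comp_id, comp_toUnit_assoc]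
      _ = a := by rw [h₁, Category.comp_id]
  have le : ∀ {T : Over S} (a : T ⟶ X), lift (toUnit T ≫ e) a ≫ m = a := fun {T} a => by
    calc lift (toUnit T ≫ e) a ≫ m = a ≫ lift (toUnit X ≫ e) (𝟙 X) ≫ m := by
          rw [comp_lift_assoc, Category.comp_id, comp_toUnit_assoc]
      _ = a := by rw [h₂, Category.comp_id]
  have hD : ∀ {T : Over S} (a c : T ⟶ X), lift a (lift a c ≫ D) ≫ m = c := fun {T} a c => by
    have hf : inv (lift (fst X X) m) ≫ fst X X = fst X X := by
      rw [IsIso.inv_comp_eq, lift_fst]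
    have hm : inv (lift (fst X X) m) ≫ m = snd X X := by
      rw [IsIso.inv_comp_eq, lift_snd]
    have hl : lift a (lift a c ≫ D) = lift a c ≫ inv (lift (fst X X) m) := by
      apply CartesianMonoidalCategory.hom_ext
      · simp [hf]
      · simp [D]
    rw [hl, Category.assoc, hm, lift_snd]
  have hD' : ∀ {T : Over S} (a b : T ⟶ X), lift a (lift a b ≫ m) ≫ D = b := fun {T} a b => by
    have : lift a (lift a b ≫ m) = lift a b ≫ lift (fst X X) m := by simp [comp_lift]
    rw [this, Category.assoc]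
    simp only [D]
    rw [IsIso.hom_inv_id_assoc, lift_snd]
  haveI : GeometricallyConnected X.hom := geometricallyConnected_of_geometricallyIrreducible X.hom
  haveI : GeometricallyConnected (X ⊗ X).hom := by
    rw [Over.tensorObj_hom]
    exact GeometricallyConnected.comp _ _
  have assoc : ∀ {T : Over S} (a b c : T ⟶ X),
      lift (lift a b ≫ m) c ≫ m = lift a (lift b c ≫ m) ≫ m := by
    let h : X ⊗ (X ⊗ X) ⟶ X :=
      lift (fst X (X ⊗ X))
        (lift (lift (fst X (X ⊗ X)) (snd X (X ⊗ X) ≫ fst X X) ≫ m) (snd X (X ⊗ X) ≫ snd X X) ≫ m) ≫ D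
    have hh : ∀ {T : Over S} (a b c : T ⟶ X),
        lift a (lift b c) ≫ h = lift a (lift (lift a b ≫ m) c ≫ m) ≫ D := fun {T} a b c => by
      simp [h, comp_lift_assoc]
    have hs : lift (𝟙 X) (toUnit X ≫ lift e e) ≫ h = toUnit X ≫ e := by
      rw [comp_lift, hh, re, re]
      conv_lhs => arg 1; arg 2; rw [← re (𝟙 X)]
      exact hD' _ _
    have hg := eq_snd_comp_of_slice h e (lift e e) e hs
    intro T a b c
    have h3 := congrArg (fun z => lift a (lift b c) ≫ z) hg
    simp only [lift_snd_assoc, lift_snd, comp_lift_assoc, Category.comp_id, comp_toUnit_assoc] at h3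
    rw [hh, hh, le] at h3
    have h4 : lift (toUnit T ≫ e) (lift b c ≫ m) ≫ D = lift b c ≫ m := by
      conv_lhs => arg 1; arg 2; rw [← le (lift b c ≫ m)]
      exact hD' _ _
    rw [h4] at h3
    rw [← hD a (lift (lift a b ≫ m) c ≫ m), h3]
  let ι : X ⟶ X := lift (𝟙 X) (toUnit X ≫ e) ≫ D
  have hr : ∀ {T : Over S} (a : T ⟶ X), lift a (a ≫ ι) ≫ m = toUnit T ≫ e := fun {T} a => by
    simp only [ι, comp_lift_assoc, Category.comp_id, comp_toUnit_assoc]
    exact hD _ _
  refine ⟨{ one := e, mul := m, one_mul := ?_, mul_one := ?_, mul_assoc := ?_, inv := ι,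
            left_inv := ?_, right_inv := ?_ }, rfl, rfl⟩
  · have : e ▷ X = lift (toUnit (𝟙_ _ ⊗ X) ≫ e) (snd _ _) := by
      apply CartesianMonoidalCategory.hom_ext <;> simp [toUnit_unique (fst (𝟙_ (Over S)) X) (toUnit _)]
    rw [this, le, leftUnitor_hom]
  · have : X ◁ e = lift (fst _ _) (toUnit (X ⊗ 𝟙_ _) ≫ e) := by
      apply CartesianMonoidalCategory.hom_ext <;> simp [toUnit_unique (snd X (𝟙_ (Over S))) (toUnit _)]
    rw [this, re, rightUnitor_hom]
  · have l : m ▷ X = lift (lift (fst _ X ≫ fst X X) (fst _ X ≫ snd X X) ≫ m) (snd _ _) := by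
      apply CartesianMonoidalCategory.hom_ext <;> simp [← comp_lift_assoc]
    have r : (α_ X X X).hom ≫ X ◁ m = lift (fst _ X ≫ fst X X) (lift (fst _ X ≫ snd X X) (snd _ _) ≫ m) := by
      apply CartesianMonoidalCategory.hom_ext
      · simp
      · simp only [Category.assoc, whiskerLeft_snd, lift_snd]
        rw [← Category.assoc]
        congr 1
        apply CartesianMonoidalCategory.hom_ext <;> simp
    rw [l, ← Category.assoc, r, assoc]
  · have hb := hr (𝟙 X)
    rw [Category.id_comp] at hb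
    have hc := hr ι
    have hac : ι ≫ ι = 𝟙 X := by
      calc ι ≫ ι = lift (toUnit X ≫ e) (ι ≫ ι) ≫ m := (le _).symm
        _ = lift (lift (𝟙 X) ι ≫ m) (ι ≫ ι) ≫ m := by rw [hb]
        _ = lift (𝟙 X) (lift ι (ι ≫ ι) ≫ m) ≫ m := assoc _ _ _
        _ = 𝟙 X := by rw [hc, re]
    rw [hac] at hc
    exact hc
  · simpa using hr (𝟙 X)

end GrothLib.Rigidity
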