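import Mathlib.AlgebraicGeometry.Morphisms.Proper
import Mathlib.AlgebraicGeometry.Properties
import Mathlib.Algebra.Polynomial.Div
import Mathlib.RingTheory.Algebraic.Integral

/-!
# Global functions on connected reduced schemes, universally closed over a field
-/

universe u

open CategoryTheory Limits AlgebraicGeometry Polynomial

namespace GrothLib.Rigidity

theorem eq_zero_or_eq_one_of_isIdempotentElem {X : Scheme.{u}} [PreconnectedSpace X] [IsReduced X]
    (e : Γ(X, ⊤)) (he : IsIdempotentElem e) : e = 0 ∨ e = 1 := by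
  have h0 : e * (1 - e) = 0 := by rw [mul_sub, mul_one, he.eq, sub_self]
  have hdisj : Disjoint (X.basicOpen e : Set X) (X.basicOpen (1 - e) : Set X) := by
    rw [Set.disjoint_iff]
    rintro x ⟨hx, hx'⟩
    rw [SetLike.mem_coe, Scheme.mem_basicOpen _ _ _ (show x ∈ (⊤ : X.Opens) from trivial)] at hx hx'
    have h := hx.mul hx'
    rw [← map_mul, h0, map_zero] at h
    exact not_isUnit_zero h
  have hcov : (X.basicOpen e : Set X) ∪ X.basicOpen (1 - e) = Set.univ := by
    refine Set.eq_univ_iff_forall.mpr fun x => ?_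
    simp only [Set.mem_union, SetLike.mem_coe, Scheme.mem_basicOpen _ _ _ (show x ∈ (⊤ : X.Opens) from trivial)]
    refine IsLocalRing.isUnit_or_isUnit_of_isUnit_add ?_
    rw [← map_add, add_sub_cancel, map_one]
    exact isUnit_one
  have hclopen : IsClopen (X.basicOpen e : Set X) := by
    refine ⟨⟨?_⟩, (X.basicOpen e).isOpen⟩
    rw [(IsCompl.of_le (Set.disjoint_iff_inter_eq_empty.mp hdisj).le hcov.ge).compl_eq]
    exact (X.basicOpen (1 - e)).isOpen
  rcases isClopen_iff.mp hclopen with h | h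
  · exact Or.inl (eq_zero_of_basicOpen_eq_bot e (TopologicalSpace.Opens.ext h))
  · have h1 : (X.basicOpen (1 - e) : Set X) = ∅ := by
      rw [h, Set.disjoint_iff_inter_eq_empty, Set.univ_inter] at hdisj
      exact hdisj
    exact Or.inr (sub_eq_zero.mp (eq_zero_of_basicOpen_eq_bot (1 - e) (TopologicalSpace.Opens.ext h1))).symm

theorem isField_appTop_of_universallyClosed {K : Type u} [Field K] {X : Scheme.{u}}
    [ConnectedSpace X] [IsReduced X] (f : X ⟶ Spec (.of K)) [UniversallyClosed f] :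
    IsField Γ(X, ⊤) := by
  let F := (Scheme.ΓSpecIso (.of K)).inv ≫ f.appTop
  have hF : F.hom.IsIntegral := by
    apply RingHom.isIntegral_respectsIso.2 (e := (Scheme.ΓSpecIso _).symm.commRingCatIsoToRingEquiv)
    exact isIntegral_appTop_of_universallyClosed f
  algebraize [F.hom]
  haveI : Nonempty X := ConnectedSpace.toNonempty
  haveI : Nonempty (⊤ : X.Opens) := ⟨⟨Classical.arbitrary X, trivial⟩⟩
  haveI : Nontrivial Γ(X, ⊤) := Scheme.component_nontrivial X ⊤
  refine ⟨exists_pair_ne _, mul_comm, fun {a} ha => ?_⟩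
  obtain ⟨p, hpm, hp⟩ := Algebra.IsIntegral.isIntegral (R := K) a
  obtain ⟨g, hg, hndvd⟩ := p.exists_eq_pow_rootMultiplicity_mul_and_not_dvd hpm.ne_zero 0
  rw [map_zero, sub_zero, X_dvd_iff] at hndvd
  obtain ⟨r, hr⟩ : ∃ r, g = C (g.coeff 0) + Polynomial.X * r :=
    ⟨g.divX, by rw [add_comm]; exact (X_mul_divX_add g).symm⟩
  set n := p.rootMultiplicity 0
  set v := -(algebraMap K Γ(X, ⊤) (g.coeff 0)⁻¹ * aeval a r)
  have hc : algebraMap K Γ(X, ⊤) (g.coeff 0)⁻¹ * algebraMap K Γ(X, ⊤) (g.coeff 0) = 1 := by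
    rw [← map_mul, inv_mul_cancel₀ hndvd, map_one]
  have h1 : a ^ n * (1 - a * v) = 0 := by
    have h2 : aeval a p = 0 := hp
    rw [hg, hr, map_zero, sub_zero, map_mul, map_pow, aeval_X, map_add, aeval_C, map_mul,
      aeval_X] at h2
    linear_combination (algebraMap K Γ(X, ⊤) (g.coeff 0)⁻¹) * h2 - a ^ n * hc
  have h2 : a * (1 - a * v) = 0 := by
    refine IsNilpotent.eq_zero ⟨n + 1, ?_⟩
    rw [mul_pow, pow_succ, pow_succ]
    linear_combination (a * (1 - a * v) ^ n) * h1
  refine ⟨v, ?_⟩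
  rcases eq_zero_or_eq_one_of_isIdempotentElem (a * v)
      (show a * v * (a * v) = a * v by linear_combination -v * h2) with h | h
  · exact absurd (by linear_combination h2 + a * h) ha
  · exact h

end GrothLib.Rigidity
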