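import Groth.Agent.Lib.Rigidity.Relative.Field
import Mathlib.AlgebraicGeometry.Geometrically.Connected
import Mathlib.AlgebraicGeometry.Geometrically.Reduced
import Mathlib.AlgebraicGeometry.Fiber
import Mathlib.AlgebraicGeometry.Morphisms.Flat

/-!
# Morphisms without nonconstant functions on the fibres
-/

universe u

open CategoryTheory Limits AlgebraicGeometry

namespace GrothLib.Rigidity

/-- On every field valued fibre with a rational point, a function is determined by its value at the
point. It holds for `H⁰(X_s, O) = κ(s)` and for geometrically connected and reduced proper fibres. -/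
class FibrewiseConst {X T : Scheme.{u}} (f : X ⟶ T) : Prop where
  injective : ∀ (K : Type u) [Field K] (y : Spec (CommRingCat.of K) ⟶ T)
    (σ : Spec (CommRingCat.of K) ⟶ pullback f y), σ ≫ pullback.snd f y = 𝟙 _ →
      Function.Injective σ.appTop

instance (priority := 100) {X T : Scheme.{u}} (f : X ⟶ T) [UniversallyClosed f]
    [GeometricallyConnected f] [GeometricallyReduced f] : FibrewiseConst f where
  injective K _ y σ _ := by
    haveI : ConnectedSpace ↥(pullback f y) :=
      pullback_of_geometrically GeometricallyConnected.geometrically_connectedSpace _ y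
    haveI : IsReduced (pullback f y) :=
      pullback_of_geometrically GeometricallyReduced.geometrically_isReduced _ y
    letI := (isField_appTop_of_universallyClosed (pullback.snd f y)).toField
    exact σ.appTop.hom.injective

theorem FibrewiseConst.of_isPullback {X T X' T' : Scheme.{u}} {f : X ⟶ T} [FibrewiseConst f]
    {f' : X' ⟶ T'} {a : X' ⟶ X} {b : T' ⟶ T} (h : IsPullback a f' f b) : FibrewiseConst f' where
  injective K _ y σ hσ := by
    have hp := (IsPullback.of_hasPullback f' y).paste_horiz h
    let e := hp.isoPullback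
    have h2 := FibrewiseConst.injective (f := f) K (y ≫ b) (σ ≫ e.hom) (by simp [e, hσ])
    rw [Scheme.Hom.comp_appTop] at h2
    replace h2 : Function.Injective (σ.appTop.hom ∘ e.hom.appTop.hom) := h2
    haveI : IsIso e.hom.appTop := inferInstanceAs (IsIso (e.hom.app ⊤))
    exact h2.of_comp_right (ConcreteCategory.bijective_of_isIso e.hom.appTop).2

instance {X T T' : Scheme.{u}} (f : X ⟶ T) (b : T' ⟶ T) [FibrewiseConst f] :
    FibrewiseConst (pullback.snd f b) :=
  .of_isPullback (IsPullback.of_hasPullback f b)

instance {X T : Scheme.{u}} (f : X ⟶ T) [FibrewiseConst f] (U : T.Opens) :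
    FibrewiseConst (f ∣_ U) :=
  .of_isPullback (isPullback_morphismRestrict f U).flip

instance {X T T' : Scheme.{u}} (f : X ⟶ T) [FibrewiseConst f] (e : T ⟶ T') [IsIso e] :
    FibrewiseConst (f ≫ e) :=
  .of_isPullback (a := 𝟙 X) (f := f) (b := inv e) (IsPullback.of_horiz_isIso ⟨by simp⟩)

/-- `H⁰(X_s, O) = κ(s)` gives `FibrewiseConst`. -/
theorem FibrewiseConst.of_bijective {X T : Scheme.{u}} (f : X ⟶ T) [QuasiCompact f]
    [QuasiSeparated f]
    (h : ∀ s : T, Function.Bijective (f.fiberToSpecResidueField s).appTop) :
    FibrewiseConst f where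
  injective K _ y σ hσ := by
    obtain ⟨s, φ, rfl⟩ : ∃ (s : T) (φ : T.residueField s ⟶ CommRingCat.of K),
        y = Spec.map φ ≫ T.fromSpecResidueField s := by
      obtain ⟨⟨s, φ⟩, hy⟩ := (T.SpecToEquivOfField K).symm.surjective y
      exact ⟨s, φ, hy.symm⟩
    have hp : IsPullback (pullback.fst f (T.fromSpecResidueField s))
        (f.fiberToSpecResidueField s) f (T.fromSpecResidueField s) :=
      IsPullback.of_hasPullback f (T.fromSpecResidueField s)
    let l : pullback f (Spec.map φ ≫ T.fromSpecResidueField s) ⟶ f.fiber s :=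
      hp.lift (pullback.fst _ _) (pullback.snd _ _ ≫ Spec.map φ)
        (by rw [Category.assoc, pullback.condition])
    have H : IsPullback l (pullback.snd _ _) (f.fiberToSpecResidueField s) (Spec.map φ) := by
      refine IsPullback.of_right ?_ (hp.lift_snd _ _ _) hp
      rw [show l ≫ pullback.fst f (T.fromSpecResidueField s) = pullback.fst _ _ from hp.lift_fst _ _ _]
      exact IsPullback.of_hasPullback _ _
    haveI : Flat (Spec.map φ) := by
      rw [HasRingHomProperty.Spec_iff (P := @Flat)]
      let := φ.hom.toAlgebra
      exact RingHom.flat_algebraMap_iff.mpr inferInstance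
    haveI : CompactSpace (f.fiber s) := inferInstance
    haveI : QuasiSeparated (f.fiberToSpecResidueField s) :=
      inferInstanceAs (QuasiSeparated (pullback.snd f (T.fromSpecResidueField s)))
    haveI : QuasiSeparatedSpace (f.fiber s) :=
      quasiSeparatedSpace_of_quasiSeparated (f.fiberToSpecResidueField s)
    have hiso := isIso_pushoutSection_of_isQuasiSeparated_of_flat_right H
      (US := ⊤) (UT := ⊤) (UX := ⊤) (UY := ⊤) le_top le_top (by simp) (isAffineOpen_top _)
      (isAffineOpen_top _) isCompact_univ (IsQuasiSeparated.of_quasiSeparatedSpace _)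
    have hpo := (isIso_pushoutSection_iff H (US := ⊤) (UT := ⊤) (UX := ⊤) (UY := ⊤) le_top le_top
      (by simp)).mp hiso
    haveI : IsIso ((f.fiberToSpecResidueField s).appLE ⊤ ⊤ le_top) := by
      rw [show (f.fiberToSpecResidueField s).appLE ⊤ ⊤ le_top =
        (f.fiberToSpecResidueField s).appTop by simp [Scheme.Hom.appLE, Scheme.Hom.appTop]]
      exact (ConcreteCategory.isIso_iff_bijective _).mpr (h s)
    have : IsIso ((pullback.snd f (Spec.map φ ≫ T.fromSpecResidueField s)).appLE ⊤ ⊤ le_top) :=
      hpo.isIso_inr_of_isIso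
    have e1 : (pullback.snd f (Spec.map φ ≫ T.fromSpecResidueField s)).appLE ⊤ ⊤ le_top =
        (pullback.snd f (Spec.map φ ≫ T.fromSpecResidueField s)).appTop := by
      simp [Scheme.Hom.appLE, Scheme.Hom.appTop]
    rw [e1] at this
    intro a b hab
    obtain ⟨a, rfl⟩ := (ConcreteCategory.bijective_of_isIso
      (pullback.snd f (Spec.map φ ≫ T.fromSpecResidueField s)).appTop).2 a
    obtain ⟨b, rfl⟩ := (ConcreteCategory.bijective_of_isIso
      (pullback.snd f (Spec.map φ ≫ T.fromSpecResidueField s)).appTop).2 b
    have hid : ∀ c, σ.appTop ((pullback.snd f (Spec.map φ ≫ T.fromSpecResidueField s)).appTop c) = c := by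
      intro c
      rw [← CommRingCat.comp_apply, ← Scheme.Hom.comp_appTop, hσ]
      simp
    rw [hid, hid] at hab
    rw [hab]

end GrothLib.Rigidity
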