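import Groth.Agent.Lib.Rigidity.Relative.AlgWrap
import Groth.Agent.Lib.Rigidity.Relative.Field
import Groth.Agent.Lib.Rigidity.Relative.FibreConst
import Mathlib.AlgebraicGeometry.Geometrically.Connected
import Mathlib.AlgebraicGeometry.Geometrically.Reduced
import Mathlib.AlgebraicGeometry.Morphisms.Flat
import Mathlib.AlgebraicGeometry.Morphisms.FinitePresentation
import Mathlib.AlgebraicGeometry.Stalk

/-!
# Functions vanishing along a section, over a local ring
-/

universe u

open CategoryTheory Limits AlgebraicGeometry Opposite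

namespace GrothLib.Rigidity

theorem flat_pi {R : Type u} [CommRing R] {ι : Type u} [Fintype ι] (M : ι → Type u)
    [∀ i, AddCommGroup (M i)] [∀ i, Module R (M i)] [∀ i, Module.Flat R (M i)] :
    Module.Flat R (∀ i, M i) :=
  haveI := Classical.decEq ι
  Module.Flat.of_linearEquiv (DFinsupp.linearEquivFunOnFintype (R := R) (M := M)).symm

theorem ringHom_map_comp {X : Scheme.{u}} {U V W : X.Opens} (h₁ : V ≤ U) (h₂ : W ≤ V) (s : Γ(X, U)) :
    X.presheaf.map (homOfLE h₂).op (X.presheaf.map (homOfLE h₁).op s) =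
      X.presheaf.map (homOfLE (h₂.trans h₁)).op s := by
  rw [← CommRingCat.comp_apply, ← X.presheaf.map_comp]
  rfl

theorem app_map_apply {X Y : Scheme.{u}} (f : X ⟶ Y) {U V : Y.Opens} (h : V ≤ U) (s : Γ(Y, U)) :
    f.app V (Y.presheaf.map (homOfLE h).op s) =
      X.presheaf.map (homOfLE (f.preimage_mono h)).op (f.app U s) := by
  rw [← CommRingCat.comp_apply, f.naturality]
  rfl

/-- Over a local ring, a function vanishing on a section vanishes in the stalks at the points of
the closed fibre, for `X` proper flat of finite presentation with geometrically connected and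
reduced fibres (or more generally without nonconstant functions on the fibres). -/
theorem germ_eq_zero_of_section_of_isLocalRing {X : Scheme.{u}} {R : CommRingCat.{u}}
    [IsLocalRing R] (f : X ⟶ Spec R) [IsProper f] [Flat f] [LocallyOfFinitePresentation f]
    [FibrewiseConst f] (σ : Spec R ⟶ X) (hσ : σ ≫ f = 𝟙 _)
    (a : Γ(X, ⊤)) (ha : σ.appTop a = 0) (x : X) (hx : f x = IsLocalRing.closedPoint R) :
    X.presheaf.germ ⊤ x trivial a = 0 := by
  haveI : CompactSpace X := (quasiCompact_iff_compactSpace f).mp inferInstance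
  let φ : ∀ V : X.Opens, R →+* Γ(X, V) := fun V =>
    ((Scheme.ΓSpecIso R).inv ≫ f.appLE ⊤ V le_top).hom
  letI : ∀ V : X.Opens, Algebra R Γ(X, V) := fun V => (φ V).toAlgebra
  have hφres : ∀ {V W : X.Opens} (h : W ≤ V) (t : R),
      X.presheaf.map (homOfLE h).op (φ V t) = φ W t := fun {V W} h t => by
    show ((Scheme.ΓSpecIso R).inv ≫ f.appLE ⊤ V le_top ≫ X.presheaf.map (homOfLE h).op) t = _
    rw [Scheme.Hom.appLE_map]
  have hFP : ∀ {V : X.Opens}, IsAffineOpen V → Algebra.FinitePresentation R Γ(X, V) := fun hV =>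
    (f.finitePresentation_appLE (isAffineOpen_top _) hV le_top).comp
      (RingHom.FinitePresentation.of_bijective
        (Scheme.ΓSpecIso R).commRingCatIsoToRingEquiv.symm.bijective)
  have hFlat : ∀ {V : X.Opens}, IsAffineOpen V → Module.Flat R Γ(X, V) := fun hV =>
    RingHom.Flat.comp (RingHom.Flat.of_bijective
        (Scheme.ΓSpecIso R).commRingCatIsoToRingEquiv.symm.bijective)
      (f.flat_appLE (isAffineOpen_top _) hV le_top)
  obtain ⟨s, hs, hcov⟩ := isCompact_iff_finite_and_eq_biUnion_affineOpens.mp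
    (show IsCompact ((⊤ : X.Opens) : Set X) from isCompact_univ)
  haveI : Fintype ↥s := hs.fintype
  let U : ↥s → X.Opens := fun i => i.1
  have hU : ∀ i, IsAffineOpen (U i) := fun i => i.1.2
  have hU2 : ∀ p : ↥s × ↥s, IsAffineOpen (U p.1 ⊓ U p.2) := fun p => by
    haveI : IsAffineHom (pullback.diagonal f) := inferInstance
    exact isAffineHom_diagonal_iff.mp this ⊤ (isAffineOpen_top _) _ le_top _ le_top (hU p.1) (hU p.2)
  have hcov' : ∀ y : X, ∃ i, y ∈ U i := fun y => by
    have : y ∈ (⊤ : X.Opens) := trivial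
    rw [hcov] at this
    simp only [TopologicalSpace.Opens.mem_iSup] at this
    obtain ⟨i, hi, hy⟩ := this
    exact ⟨⟨i, hi⟩, hy⟩
  haveI := fun i => hFP (hU i)
  haveI := fun p => hFP (hU2 p)
  haveI := fun p => hFlat (hU2 p)
  haveI : Module.Flat R (∀ p : ↥s × ↥s, Γ(X, U p.1 ⊓ U p.2)) := flat_pi _
  let ρ₁ : (∀ i, Γ(X, U i)) →ₐ[R] (∀ p : ↥s × ↥s, Γ(X, U p.1 ⊓ U p.2)) :=
    { toRingHom := Pi.ringHom fun p => (X.presheaf.map (homOfLE inf_le_left).op).hom.comp
        (Pi.evalRingHom _ p.1)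
      commutes' := fun t => funext fun p => hφres inf_le_left t }
  let ρ₂ : (∀ i, Γ(X, U i)) →ₐ[R] (∀ p : ↥s × ↥s, Γ(X, U p.1 ⊓ U p.2)) :=
    { toRingHom := Pi.ringHom fun p => (X.presheaf.map (homOfLE inf_le_right).op).hom.comp
        (Pi.evalRingHom _ p.2)
      commutes' := fun t => funext fun p => hφres inf_le_right t }
  obtain ⟨i₀, hi₀⟩ := hcov' (σ (IsLocalRing.closedPoint R))
  have hσtop : (⊤ : (Spec R).Opens) ≤ σ ⁻¹ᵁ U i₀ :=
    (Scheme.preimage_eq_top_of_closedPoint_mem σ hi₀).ge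
  let εR : Γ(X, U i₀) →+* R := (σ.appLE (U i₀) ⊤ hσtop ≫ (Scheme.ΓSpecIso R).hom).hom
  have hεR : ∀ t : R, εR (φ (U i₀) t) = t := fun t => by
    have h1 : ∀ (g : Spec R ⟶ Spec R), g = 𝟙 _ → g.appLE ⊤ ⊤ le_top = 𝟙 _ := fun g hg => by
      subst hg
      rw [Scheme.Hom.appLE]
      exact (Category.id_comp _).trans ((Spec R).presheaf.map_id _)
    show ((Scheme.ΓSpecIso R).inv ≫ (f.appLE ⊤ (U i₀) le_top ≫ σ.appLE (U i₀) ⊤ hσtop) ≫
      (Scheme.ΓSpecIso R).hom) t = t
    rw [Scheme.Hom.appLE_comp_appLE, h1 (σ ≫ f) hσ, Category.id_comp, Iso.inv_hom_id]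
    rfl
  let ε : (∀ i, Γ(X, U i)) →ₐ[R] R :=
    { toRingHom := εR.comp (Pi.evalRingHom _ i₀)
      commutes' := hεR }
  let aA : ∀ i, Γ(X, U i) := fun i => X.presheaf.map (homOfLE le_top).op a
  have haA : ρ₁ aA = ρ₂ aA := funext fun p =>
    (ringHom_map_comp (U := (⊤ : X.Opens)) le_top inf_le_left a).trans
      (ringHom_map_comp (U := (⊤ : X.Opens)) le_top inf_le_right a).symm
  have hεa : ε aA = 0 := by
    show (X.presheaf.map (homOfLE le_top).op ≫ σ.appLE (U i₀) ⊤ hσtop ≫
      (Scheme.ΓSpecIso R).hom) a = 0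
    rw [Scheme.Hom.map_appLE_assoc]
    have : σ.appLE ⊤ ⊤ le_top = σ.appTop := by simp [Scheme.Hom.appLE, Scheme.Hom.appTop]
    rw [this, CommRingCat.comp_apply, ha, map_zero]
  obtain ⟨j₀, hj₀⟩ := hcov' x
  let P : Ideal (∀ i, Γ(X, U i)) := (IsLocalRing.maximalIdeal (X.presheaf.stalk x)).comap
    ((X.presheaf.germ (U j₀) x hj₀).hom.comp (Pi.evalRingHom _ j₀))
  haveI : P.IsPrime := Ideal.IsPrime.comap _
  have hP : (IsLocalRing.maximalIdeal R).map (algebraMap R (∀ i, Γ(X, U i))) ≤ P := by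
    rw [Ideal.map_le_iff_le_comap]
    intro t ht
    show X.presheaf.germ (U j₀) x hj₀ (φ (U j₀) t) ∈ IsLocalRing.maximalIdeal _
    rw [IsLocalRing.mem_maximalIdeal, mem_nonunits_iff, ← Scheme.mem_basicOpen _ _ _ hj₀]
    show x ∉ X.basicOpen (f.appLE ⊤ (U j₀) le_top ((Scheme.ΓSpecIso R).inv t))
    rw [Scheme.basicOpen_appLE]
    intro hmem
    have h2 := hmem.2
    have h2' : f x ∈ (Spec R).basicOpen ((Scheme.ΓSpecIso R).inv t) := h2
    rw [basicOpen_eq_of_affine, hx] at h2'
    have h3 : IsLocalRing.closedPoint R ∈ PrimeSpectrum.basicOpen t := h2'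
    exact h3 ht
  -- the equalizer modulo `𝔪` consists of constants
  have hk : ∀ b, ρ₁ b - ρ₂ b ∈
      (IsLocalRing.maximalIdeal R).map (algebraMap R (∀ p : ↥s × ↥s, Γ(X, U p.1 ⊓ U p.2))) →
      ∃ t : R, b - algebraMap R (∀ i, Γ(X, U i)) t ∈
        (IsLocalRing.maximalIdeal R).map (algebraMap R (∀ i, Γ(X, U i))) := by
    intro b hb
    let res : R ⟶ CommRingCat.of (IsLocalRing.ResidueField R) :=
      CommRingCat.ofHom (IsLocalRing.residue R)
    let j := pullback.fst f (Spec.map res)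
    let g := pullback.snd f (Spec.map res)
    have hkill : ∀ (V : X.Opens) (z : Γ(X, V)),
        z ∈ (IsLocalRing.maximalIdeal R).map (algebraMap R Γ(X, V)) → j.app V z = 0 := by
      intro V z hz
      suffices (IsLocalRing.maximalIdeal R).map (algebraMap R Γ(X, V)) ≤ RingHom.ker (j.app V).hom
        from this hz
      rw [Ideal.map_le_iff_le_comap]
      intro t ht
      show j.app V (φ V t) = 0
      show ((Scheme.ΓSpecIso R).inv ≫ f.appLE ⊤ V le_top ≫ j.app V) t = 0
      rw [Scheme.Hom.app_eq_appLE, Scheme.Hom.appLE_comp_appLE]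
      have h1 : ∀ (h : pullback f (Spec.map res) ⟶ Spec R) (e), h = g ≫ Spec.map res →
          ((Scheme.ΓSpecIso R).inv ≫ h.appLE ⊤ (j ⁻¹ᵁ V) e) t = 0 := by
        intro h e hh
        subst hh
        rw [← Scheme.Hom.appLE_comp_appLE _ _ _ ⊤ _ le_top le_top]
        have : (Spec.map res).appLE ⊤ ⊤ le_top = (Spec.map res).appTop := by
          simp [Scheme.Hom.appLE, Scheme.Hom.appTop]
        rw [this, ← Category.assoc, ← Scheme.ΓSpecIso_inv_naturality]
        simp only [CommRingCat.comp_apply, res, CommRingCat.hom_ofHom,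
          (IsLocalRing.residue_eq_zero_iff t).mpr ht, map_zero]
      exact h1 _ _ pullback.condition
    let sec : ∀ i, Γ(pullback f (Spec.map res), j ⁻¹ᵁ U i) := fun i => j.app (U i) (b i)
    have hcompat : TopCat.Presheaf.IsCompatible (pullback f (Spec.map res)).presheaf
        (fun i => j ⁻¹ᵁ U i) sec := by
      intro i i'
      let q : (∀ p : ↥s × ↥s, Γ(X, U p.1 ⊓ U p.2)) →ₐ[R] Γ(X, U i ⊓ U i') :=
        Pi.evalAlgHom R _ (i, i')
      have h0 := Ideal.mem_map_of_mem q.toRingHom hb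
      rw [Ideal.map_map, show q.toRingHom.comp (algebraMap R _) = algebraMap R _ from
        RingHom.ext fun t => q.commutes t] at h0
      have h1 := hkill _ _ h0
      have h1' : j.app (U i ⊓ U i') (X.presheaf.map (homOfLE inf_le_left).op (b i)) =
          j.app (U i ⊓ U i') (X.presheaf.map (homOfLE inf_le_right).op (b i')) := by
        rw [← sub_eq_zero, ← map_sub]
        exact h1
      rw [app_map_apply, app_map_apply] at h1'
      exact h1'
    obtain ⟨β, hβ, -⟩ := (pullback f (Spec.map res)).sheaf.existsUnique_gluing'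
      (fun i => j ⁻¹ᵁ U i) ⊤ (fun i => homOfLE le_top)
      (fun y _ => TopologicalSpace.Opens.mem_iSup.mpr (hcov' (j y))) sec hcompat
    let σk : Spec (CommRingCat.of (IsLocalRing.ResidueField R)) ⟶ pullback f (Spec.map res) :=
      pullback.lift (Spec.map res ≫ σ) (𝟙 _) (by rw [Category.assoc, hσ]; simp)
    have hσkg : σk ≫ g = 𝟙 _ := pullback.lift_snd _ _ _
    obtain ⟨t, ht⟩ := IsLocalRing.residue_surjective
      ((σk.appTop ≫ (Scheme.ΓSpecIso _).hom) β)
    have hβt : β = g.appTop ((Scheme.ΓSpecIso _).inv (IsLocalRing.residue R t)) := by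
      let χ : Γ(pullback f (Spec.map res), ⊤) →+* IsLocalRing.ResidueField R :=
        (σk.appTop ≫ (Scheme.ΓSpecIso _).hom).hom
      have hχ : Function.Injective χ :=
        (Scheme.ΓSpecIso _).commRingCatIsoToRingEquiv.injective.comp
          (FibrewiseConst.injective (f := f) (IsLocalRing.ResidueField R) (Spec.map res) σk hσkg)
      refine hχ ?_
      show _ = ((Scheme.ΓSpecIso _).inv ≫ (g.appTop ≫ σk.appTop) ≫ (Scheme.ΓSpecIso _).hom)
        (IsLocalRing.residue R t)
      rw [← Scheme.Hom.comp_appTop, hσkg, Scheme.Hom.id_appTop, Category.id_comp, Iso.inv_hom_id]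
      exact ht.symm
    refine ⟨t, pi_mem_map _ _ fun i => ?_⟩
    show b i - φ (U i) t ∈ _
    set I := (IsLocalRing.maximalIdeal R).map (algebraMap R Γ(X, U i)) with hI
    -- `j` kills `b i - t`
    have hj : j.app (U i) (b i - φ (U i) t) = 0 := by
      rw [map_sub, sub_eq_zero]
      refine (hβ i).symm.trans ?_
      rw [hβt]
      show ((Scheme.ΓSpecIso _).inv ≫ g.appTop ≫
        (pullback f (Spec.map res)).presheaf.map (homOfLE le_top).op) (IsLocalRing.residue R t) = _
      have h1 : (g.appTop ≫ (pullback f (Spec.map res)).presheaf.map (homOfLE le_top).op) =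
          g.appLE ⊤ (j ⁻¹ᵁ U i) le_top := rfl
      rw [h1]
      show (res ≫ (Scheme.ΓSpecIso _).inv ≫ g.appLE ⊤ (j ⁻¹ᵁ U i) le_top) t =
        ((Scheme.ΓSpecIso R).inv ≫ f.appLE ⊤ (U i) le_top ≫ j.app (U i)) t
      rw [Scheme.ΓSpecIso_inv_naturality_assoc, Scheme.Hom.app_eq_appLE,
        Scheme.Hom.appLE_comp_appLE]
      have h2 : (Spec.map res).appTop = (Spec.map res).appLE ⊤ ⊤ le_top := by
        simp [Scheme.Hom.appLE, Scheme.Hom.appTop]
      rw [h2, Scheme.Hom.appLE_comp_appLE]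
      have h3 : ∀ (h h' : pullback f (Spec.map res) ⟶ Spec R) (e e'), h = h' →
          h.appLE ⊤ (j ⁻¹ᵁ U i) e = h'.appLE ⊤ (j ⁻¹ᵁ U i) e' := by
        intro h h' e e' hh; subst hh; rfl
      rw [h3 _ _ _ _ pullback.condition.symm]
    -- the kernel of `j.app (U i)` is `I`
    let π : Γ(X, U i) ⟶ CommRingCat.of (Γ(X, U i) ⧸ I) := CommRingCat.ofHom (Ideal.Quotient.mk I)
    let kA : CommRingCat.of (IsLocalRing.ResidueField R) ⟶ CommRingCat.of (Γ(X, U i) ⧸ I) :=
      CommRingCat.ofHom (Ideal.Quotient.lift (IsLocalRing.maximalIdeal R)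
        ((Ideal.Quotient.mk I).comp (φ (U i)))
        fun r hr => Ideal.Quotient.eq_zero_iff_mem.mpr (Ideal.mem_map_of_mem _ hr))
    have hcond : (Spec.map π ≫ (hU i).fromSpec) ≫ f = Spec.map kA ≫ Spec.map res := by
      rw [Category.assoc, ← (isAffineOpen_top (Spec R)).SpecMap_appLE_fromSpec f (hU i) le_top,
        IsAffineOpen.fromSpec_top, Scheme.isoSpec_Spec_inv, ← Spec.map_comp, ← Spec.map_comp,
        ← Spec.map_comp]
      congr 1
    let l := pullback.lift (Spec.map π ≫ (hU i).fromSpec) (Spec.map kA) hcond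
    have hl : l ≫ j = Spec.map π ≫ (hU i).fromSpec := pullback.lift_fst _ _ _
    have hle : (⊤ : (Spec (CommRingCat.of (Γ(X, U i) ⧸ I))).Opens) ≤ (l ≫ j) ⁻¹ᵁ U i := by
      rw [hl, Scheme.Hom.comp_preimage, IsAffineOpen.fromSpec_preimage_self]
      exact le_rfl
    have h4 : (l ≫ j).appLE (U i) ⊤ hle (b i - φ (U i) t) = 0 := by
      rw [Scheme.Hom.comp_appLE, CommRingCat.comp_apply, hj, map_zero]
    have h5 : ∀ (h : Spec (CommRingCat.of (Γ(X, U i) ⧸ I)) ⟶ X) (e : (⊤ : TopologicalSpace.Opens _) ≤ h ⁻¹ᵁ U i),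
        h = Spec.map π ≫ (hU i).fromSpec → h.appLE (U i) ⊤ e = π ≫ (Scheme.ΓSpecIso _).inv := by
      intro h e hh
      subst hh
      rw [Scheme.Hom.comp_appLE, IsAffineOpen.fromSpec_app_self, Category.assoc,
        Scheme.Hom.map_appLE, Scheme.ΓSpecIso_inv_naturality]
      simp [Scheme.Hom.appLE, Scheme.Hom.appTop]
    rw [h5 _ hle hl] at h4
    exact Ideal.Quotient.eq_zero_iff_mem.mp
      ((Scheme.ΓSpecIso (CommRingCat.of (Γ(X, U i) ⧸ I))).symm.commRingCatIsoToRingEquiv.injective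
        (h4.trans (map_zero _).symm))
  obtain ⟨u, hu, hua⟩ := exists_mul_eq_zero_of_equalizer ρ₁ ρ₂ ε aA haA hεa hk P hP
  have hgerm := congrArg ((X.presheaf.germ (U j₀) x hj₀).hom.comp (Pi.evalRingHom _ j₀)) hua
  rw [map_mul, map_zero] at hgerm
  have hu' : IsUnit (((X.presheaf.germ (U j₀) x hj₀).hom.comp (Pi.evalRingHom _ j₀)) u) := by
    by_contra h
    exact hu ((IsLocalRing.mem_maximalIdeal _).mpr h)
  rw [hu'.mul_right_eq_zero] at hgerm
  rw [← TopCat.Presheaf.germ_res_apply X.presheaf (homOfLE le_top : U j₀ ⟶ ⊤) x hj₀ a]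
  exact hgerm

end GrothLib.Rigidity
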