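import Groth.Agent.Lib.Rigidity.Relative.Sections
import Mathlib.AlgebraicGeometry.Sites.Fpqc
import Mathlib.AlgebraicGeometry.PullbackCarrier
import Mathlib.AlgebraicGeometry.Morphisms.ClosedImmersion
import Mathlib.AlgebraicGeometry.Morphisms.UniversallyOpen

/-!
# Rigidity over an arbitrary base

For `g : X ⟶ T` proper, flat, of finite presentation with geometrically connected and reduced
fibres, with a section `σ`:
* `eq_zero_of_section`: a function vanishing on `σ` vanishes;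
* `eq_of_section`: two morphisms to an affine scheme agreeing on `σ` agree;
* `exists_isClopen_factor_of_section`: rigidity (GIT 6.1).
-/

universe u

open CategoryTheory Limits AlgebraicGeometry Opposite TopologicalSpace

namespace GrothLib.Rigidity

theorem stalkMap_injective_of_flat {X Y : Scheme.{u}} (f : X ⟶ Y) [Flat f] (x : X) :
    Function.Injective (f.stalkMap x) := by
  algebraize [(f.stalkMap x).hom]
  have : Module.FaithfullyFlat (Y.presheaf.stalk (f x)) (X.presheaf.stalk x) :=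
    @Module.FaithfullyFlat.of_flat_of_isLocalHom _ _ _ _ _ _ _
      (Flat.stalkMap f x) (f.toLRSHom.prop x)
  exact ‹RingHom.FaithfullyFlat _›.injective

theorem eq_zero_of_section_of_Spec {X : Scheme.{u}} {R : CommRingCat.{u}} (f : X ⟶ Spec R)
    [IsProper f] [Flat f] [LocallyOfFinitePresentation f] [FibrewiseConst f] (σ : Spec R ⟶ X) (hσ : σ ≫ f = 𝟙 _) (a : Γ(X, ⊤))
    (ha : σ.appTop a = 0) : a = 0 := by
  have key : ∀ y : X, IsClosed ({f y} : Set (Spec R)) → X.presheaf.germ ⊤ y trivial a = 0 := by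
    intro y hy
    let p : PrimeSpectrum R := f y
    haveI : p.asIdeal.IsMaximal := (PrimeSpectrum.isClosed_singleton_iff_isMaximal p).mp hy
    let loc : R ⟶ CommRingCat.of (Localization.AtPrime p.asIdeal) :=
      CommRingCat.ofHom (algebraMap R _)
    haveI : Flat (Spec.map loc) := by
      rw [HasRingHomProperty.Spec_iff (P := @Flat)]
      exact RingHom.flat_algebraMap_iff.mpr (IsLocalization.flat _ p.asIdeal.primeCompl)
    haveI : IsLocalRing (CommRingCat.of (Localization.AtPrime p.asIdeal)) :=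
      inferInstanceAs (IsLocalRing (Localization.AtPrime p.asIdeal))
    have hcl : Spec.map loc (IsLocalRing.closedPoint (Localization.AtPrime p.asIdeal)) = f y := by
      refine PrimeSpectrum.ext ?_
      exact Localization.AtPrime.comap_maximalIdeal
    obtain ⟨y', hy₁, hy₂⟩ := Scheme.Pullback.exists_preimage_pullback (f := f) (g := Spec.map loc) y
      (IsLocalRing.closedPoint (Localization.AtPrime p.asIdeal)) hcl.symm
    let σ' := pullback.lift (Spec.map loc ≫ σ) (𝟙 _) (by rw [Category.assoc, hσ, Category.comp_id, Category.id_comp])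
    have h0 := germ_eq_zero_of_section_of_isLocalRing (pullback.snd f (Spec.map loc)) σ'
      (pullback.lift_snd _ _ _) ((pullback.fst f (Spec.map loc)).appTop a) (by
        rw [← CommRingCat.comp_apply, ← Scheme.Hom.comp_appTop, pullback.lift_fst,
          Scheme.Hom.comp_appTop, CommRingCat.comp_apply, ha, map_zero]) y' hy₂
    have h1 : X.presheaf.germ ⊤ (pullback.fst f (Spec.map loc) y') trivial a = 0 := by
      refine stalkMap_injective_of_flat (pullback.fst f (Spec.map loc)) y' ?_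
      rw [map_zero, Scheme.Hom.germ_stalkMap_apply]
      exact h0
    have h2 : ∀ (z : X), z = y → X.presheaf.germ ⊤ z trivial a = 0 → X.presheaf.germ ⊤ y trivial a = 0 := by
      rintro z rfl h
      exact h
    exact h2 _ hy₁ h1
  refine TopCat.Presheaf.section_ext X.sheaf ⊤ a 0 fun x _ => ?_
  rw [map_zero]
  -- a closed point under `x`
  obtain ⟨p, hpmem, hp⟩ : ∃ p ∈ f '' closure {x}, IsClosed ({p} : Set (Spec R)) := by
    obtain ⟨p, hp1, hp2⟩ := (f.isClosedMap _ (isClosed_closure (s := {x}))).exists_closed_singleton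
      ⟨f x, x, subset_closure rfl, rfl⟩
    exact ⟨p, hp1, hp2⟩
  obtain ⟨y, hy, rfl⟩ := hpmem
  obtain ⟨W, hyW, i₁, i₂, hW⟩ := X.presheaf.germ_eq y (show y ∈ (⊤ : X.Opens) from trivial) (show y ∈ (⊤ : X.Opens) from trivial) a 0 (by rw [key y hp, map_zero])
  rw [map_zero] at hW
  have hxW : x ∈ W := (specializes_iff_mem_closure.mpr hy).mem_open W.2 hyW
  show X.presheaf.germ ⊤ x trivial a = 0
  rw [← TopCat.Presheaf.germ_res_apply X.presheaf i₁ x hxW a, hW, map_zero]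

theorem morphismRestrict_section {X T : Scheme.{u}} (g : X ⟶ T) (σ : T ⟶ X) (hσ : σ ≫ g = 𝟙 T)
    (U : T.Opens) : ∃ σU : (U : Scheme.{u}) ⟶ (g ⁻¹ᵁ U : Scheme.{u}),
      σU ≫ (g ∣_ U) = 𝟙 _ ∧ σU ≫ (g ⁻¹ᵁ U).ι = U.ι ≫ σ := by
  have h : (U.ι ≫ σ) ≫ g = 𝟙 _ ≫ U.ι := by rw [Category.assoc, hσ]; simp
  exact ⟨(isPullback_morphismRestrict g U).flip.lift (U.ι ≫ σ) (𝟙 _) h,
    IsPullback.lift_snd _ _ _ h, IsPullback.lift_fst _ _ _ h⟩

/-- Two morphisms to an affine scheme agreeing on a section agree. -/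
theorem eq_of_section {X T Y : Scheme.{u}} [IsAffine Y] (g : X ⟶ T) [IsProper g] [Flat g]
    [LocallyOfFinitePresentation g] [FibrewiseConst g]
    (σ : T ⟶ X) (hσ : σ ≫ g = 𝟙 T) (u v : X ⟶ Y) (h : σ ≫ u = σ ≫ v) : u = v := by
  refine ext_of_isAffine (ConcreteCategory.hom_ext _ _ fun b => ?_)
  rw [← sub_eq_zero]
  set a := u.appTop b - v.appTop b
  have ha : σ.appTop a = 0 := by
    rw [map_sub, ← CommRingCat.comp_apply, ← CommRingCat.comp_apply, ← Scheme.Hom.comp_appTop,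
      ← Scheme.Hom.comp_appTop, h, sub_self]
  refine TopCat.Presheaf.section_ext X.sheaf ⊤ a 0 fun x _ => ?_
  rw [map_zero]
  obtain ⟨_, ⟨U, hU, rfl⟩, hxU, -⟩ := T.isBasis_affineOpens.exists_subset_of_mem_open
    (Set.mem_univ (g x)) isOpen_univ
  haveI : IsAffine U := hU
  obtain ⟨σU, hσU, hσU'⟩ := morphismRestrict_section g σ hσ U
  let e := hU.isoSpec
  have hres : ((g ⁻¹ᵁ U).ι.appTop a) = 0 := by
    haveI : IsProper ((g ∣_ U) ≫ e.hom) := inferInstance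
    refine eq_zero_of_section_of_Spec ((g ∣_ U) ≫ e.hom) (e.inv ≫ σU)
      (by rw [Category.assoc, reassoc_of% hσU, e.inv_hom_id]) _ ?_
    rw [← CommRingCat.comp_apply, ← Scheme.Hom.comp_appTop, Category.assoc, hσU',
      Scheme.Hom.comp_appTop, Scheme.Hom.comp_appTop, CommRingCat.comp_apply, CommRingCat.comp_apply,
      ha, map_zero, map_zero]
  show X.presheaf.germ ⊤ x trivial a = 0
  have h2 := congrArg ((g ⁻¹ᵁ U : Scheme.{u}).presheaf.germ ⊤ ⟨x, hxU⟩ trivial) hres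
  rw [map_zero] at h2
  refine stalkMap_injective_of_flat (g ⁻¹ᵁ U).ι ⟨x, hxU⟩ ?_
  refine Eq.trans ?_ (map_zero _).symm
  refine Eq.trans ?_ h2
  exact Scheme.Hom.germ_stalkMap_apply (g ⁻¹ᵁ U).ι ⊤ ⟨x, hxU⟩ trivial a

/-- Rigidity, local form: if a fibre goes to a point, so do the neighbouring ones. -/
theorem exists_open_factor_of_section {X T Y : Scheme.{u}} (g : X ⟶ T) [IsProper g] [Flat g]
    [LocallyOfFinitePresentation g] [FibrewiseConst g]
    (σ : T ⟶ X) (hσ : σ ≫ g = 𝟙 T) (f : X ⟶ Y) (t : T) (ht : (f '' (g ⁻¹' {t})).Subsingleton) :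
    ∃ U : T.Opens, t ∈ U ∧ (g ⁻¹ᵁ U).ι ≫ f = (g ⁻¹ᵁ U).ι ≫ g ≫ σ ≫ f := by
  obtain ⟨V, hV, hV0⟩ : ∃ V : Y.Opens, IsAffineOpen V ∧ f (σ t) ∈ V := by
    obtain ⟨_, ⟨V, hV, rfl⟩, hV0, -⟩ := Y.isBasis_affineOpens.exists_subset_of_mem_open
      (Set.mem_univ (f (σ t))) isOpen_univ
    exact ⟨V, hV, hV0⟩
  have hclosed : IsClosed (g '' ((f ⁻¹ᵁ V : X.Opens) : Set X)ᶜ) :=
    g.isClosedMap _ (f ⁻¹ᵁ V).isOpen.isClosed_compl
  let U : T.Opens := ⟨(g '' ((f ⁻¹ᵁ V : X.Opens) : Set X)ᶜ)ᶜ, hclosed.isOpen_compl⟩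
  have hgσ : ∀ s, g (σ s) = s := fun s => by
    rw [← Scheme.Hom.comp_apply, hσ]; rfl
  have htU : t ∈ U := by
    rintro ⟨x, hx, hxt⟩
    refine hx ?_
    show f x ∈ V
    rw [ht ⟨x, hxt, rfl⟩ ⟨σ t, hgσ t, rfl⟩]
    exact hV0
  refine ⟨U, htU, ?_⟩
  have hsub : ∀ x, g x ∈ U → f x ∈ V := fun x hx => by
    by_contra h
    exact hx ⟨x, h, rfl⟩
  obtain ⟨σU, hσU, hσU'⟩ := morphismRestrict_section g σ hσ U
  haveI : IsAffine V := hV
  let u := IsOpenImmersion.lift V.ι ((g ⁻¹ᵁ U).ι ≫ f) (by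
    rintro _ ⟨x, rfl⟩
    rw [Scheme.Opens.range_ι]
    exact hsub x.1 x.2)
  have hu : u ≫ V.ι = (g ⁻¹ᵁ U).ι ≫ f := IsOpenImmersion.lift_fac _ _ _
  have huv : u = (g ∣_ U) ≫ σU ≫ u :=
    eq_of_section (g ∣_ U) σU hσU _ _ (by rw [reassoc_of% hσU])
  calc (g ⁻¹ᵁ U).ι ≫ f = u ≫ V.ι := hu.symm
    _ = (g ∣_ U) ≫ σU ≫ u ≫ V.ι := by conv_lhs => rw [huv]; simp only [Category.assoc]
    _ = _ := by rw [hu, reassoc_of% hσU', morphismRestrict_ι_assoc]

/-- Rigidity: the collapsed locus is open and closed. -/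
theorem exists_isClopen_factor_of_section {X T Y S : Scheme.{u}} (g : X ⟶ T) [IsProper g] [Flat g]
    [LocallyOfFinitePresentation g] [FibrewiseConst g]
    (σ : T ⟶ X) (hσ : σ ≫ g = 𝟙 T) (p : T ⟶ S) (q : Y ⟶ S) [IsSeparated q] (f : X ⟶ Y)
    (hf : f ≫ q = g ≫ p) :
    ∃ W : T.Opens, IsClosed (W : Set T) ∧
      (∀ t : T, (f '' (g ⁻¹' {t})).Subsingleton ↔ t ∈ W) ∧
      (g ⁻¹ᵁ W).ι ≫ f = (g ⁻¹ᵁ W).ι ≫ g ≫ σ ≫ f := by
  have hh : f ≫ q = (g ≫ σ ≫ f) ≫ q := by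
    simp only [Category.assoc, hf]
    rw [reassoc_of% hσ]
  let Z := pullback (pullback.diagonal q) (pullback.lift f (g ≫ σ ≫ f) hh)
  let z : Z ⟶ X := pullback.snd _ _
  have hz : z ≫ f = z ≫ g ≫ σ ≫ f := by
    have h1 := pullback.condition (f := pullback.diagonal q) (g := pullback.lift f (g ≫ σ ≫ f) hh)
    have h2 := congrArg (fun k => k ≫ pullback.fst q q) h1
    have h3 := congrArg (fun k => k ≫ pullback.snd q q) h1
    simp only [Category.assoc, pullback.diagonal_fst, Category.comp_id, pullback.lift_fst] at h2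
    simp only [Category.assoc, pullback.diagonal_snd, Category.comp_id, pullback.lift_snd] at h3
    exact h2.symm.trans h3
  have hgσ : ∀ s, g (σ s) = s := fun s => by
    rw [← Scheme.Hom.comp_apply, hσ]; rfl
  have hpt : ∀ x ∈ Set.range z, f x = f (σ (g x)) := by
    rintro _ ⟨w, rfl⟩
    rw [← Scheme.Hom.comp_apply, hz]
    rfl
  let Ws : Set T := (g '' (Set.range z)ᶜ)ᶜ
  have hWclosed : IsClosed Ws :=
    ((g.isOpenMap) _ z.isClosedEmbedding.isClosed_range.isOpen_compl).isClosed_compl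
  have hsub : ∀ t ∈ Ws, (f '' (g ⁻¹' {t})).Subsingleton := by
    intro t ht
    have : ∀ x, g x = t → f x = f (σ t) := fun x hx => by
      rw [← hx]
      refine hpt x ?_
      by_contra h
      exact ht ⟨x, h, hx⟩
    rintro _ ⟨x, hx, rfl⟩ _ ⟨x', hx', rfl⟩
    rw [this x hx, this x' hx']
  have hloc : ∀ t : T, (f '' (g ⁻¹' {t})).Subsingleton → ∃ U : T.Opens, t ∈ U ∧ (U : Set T) ⊆ Ws ∧
      (g ⁻¹ᵁ U).ι ≫ f = (g ⁻¹ᵁ U).ι ≫ g ≫ σ ≫ f := by
    intro t ht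
    obtain ⟨U, htU, hU⟩ := exists_open_factor_of_section g σ hσ f t ht
    refine ⟨U, htU, ?_, hU⟩
    rintro s hs ⟨x, hx, rfl⟩
    refine hx ?_
    let l : (g ⁻¹ᵁ U : Scheme.{u}) ⟶ Z :=
      pullback.lift ((g ⁻¹ᵁ U).ι ≫ f) (g ⁻¹ᵁ U).ι (by
        apply pullback.hom_ext
        · simp only [Category.assoc, pullback.diagonal_fst, Category.comp_id, pullback.lift_fst]
        · simp only [Category.assoc, pullback.diagonal_snd, Category.comp_id, pullback.lift_snd]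
          exact hU)
    exact ⟨l ⟨x, hs⟩, by
      rw [← Scheme.Hom.comp_apply, pullback.lift_snd]
      rfl⟩
  have hWopen : IsOpen Ws := by
    refine isOpen_iff_forall_mem_open.mpr fun t ht => ?_
    obtain ⟨U, htU, hUW, -⟩ := hloc t (hsub t ht)
    exact ⟨U, hUW, U.2, htU⟩
  refine ⟨⟨Ws, hWopen⟩, hWclosed, fun t => ⟨fun ht => ?_, fun ht => hsub t ht⟩, ?_⟩
  · obtain ⟨U, htU, hUW, -⟩ := hloc t ht
    exact hUW htU
  · have hex : ∀ t : (⟨Ws, hWopen⟩ : T.Opens), ∃ U : T.Opens, t.1 ∈ U ∧ (U : Set T) ⊆ Ws ∧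
        (g ⁻¹ᵁ U).ι ≫ f = (g ⁻¹ᵁ U).ι ≫ g ≫ σ ≫ f := fun t => hloc t.1 (hsub t.1 t.2)
    choose U htU hUW hU using hex
    refine Scheme.Cover.hom_ext ((g ⁻¹ᵁ (⟨Ws, hWopen⟩ : T.Opens) : Scheme.{u}).openCoverOfIsOpenCover
      (fun t => (g ⁻¹ᵁ (⟨Ws, hWopen⟩ : T.Opens)).ι ⁻¹ᵁ (g ⁻¹ᵁ U t)) ?_) _ _ fun t => ?_
    · rw [IsOpenCover, eq_top_iff]
      intro x _
      exact Opens.mem_iSup.mpr ⟨⟨g x.1, x.2⟩, htU _⟩
    · simp only [Scheme.openCoverOfIsOpenCover_f]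
      have hfac : ∀ (A : (g ⁻¹ᵁ (⟨Ws, hWopen⟩ : T.Opens) : Scheme.{u}).Opens)
          (hA : A = (g ⁻¹ᵁ (⟨Ws, hWopen⟩ : T.Opens)).ι ⁻¹ᵁ (g ⁻¹ᵁ U t)),
          ∃ m : (A : Scheme.{u}) ⟶ (g ⁻¹ᵁ U t : Scheme.{u}),
            m ≫ (g ⁻¹ᵁ U t).ι = A.ι ≫ (g ⁻¹ᵁ (⟨Ws, hWopen⟩ : T.Opens)).ι := fun A hA =>
        ⟨IsOpenImmersion.lift (g ⁻¹ᵁ U t).ι (A.ι ≫ (g ⁻¹ᵁ (⟨Ws, hWopen⟩ : T.Opens)).ι) (by
          rintro _ ⟨w, rfl⟩
          rw [Scheme.Opens.range_ι]
          have := w.2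
          subst hA
          exact this), IsOpenImmersion.lift_fac _ _ _⟩
      obtain ⟨m, hm⟩ := hfac _ rfl
      have h4 := congrArg (fun k => m ≫ k) (hU t)
      rw [← Category.assoc, ← Category.assoc m, hm, Category.assoc, Category.assoc] at h4
      exact h4

end GrothLib.Rigidity
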