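import Groth.Agent.Lib.FlatStage.Stage
import Mathlib.RingTheory.Filtration
import Mathlib.RingTheory.Localization.Ideal

/-!
# Functions vanishing on a section, algebraic core

`R` local, `R[z]/(g)` flat over `R`, `p₁ p₂ : R[x]/(f) → R[z]/(g)`. If the equalizer of
`p₁ p₂` modulo `𝔪` consists of constants, an element of the equalizer vanishing at an `R`-point
`e` vanishes in the local rings of the primes over `𝔪`. No noetherian hypothesis.
-/

universe u

namespace GrothLib.Rigidity

open IsLocalRing MvPolynomial Function GrothLib.FlatStage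

/-- `β ∈ (f) + 𝔪` can be tested after a local extension of the ground ring. -/
theorem mem_sup_of_map_mem {S R : Type u} [CommRing S] [IsLocalRing S] [CommRing R] [IsLocalRing R]
    (h : S →+* R) [IsLocalHom h] {n s : ℕ} (f : Fin s → MvPolynomial (Fin n) S)
    (β : MvPolynomial (Fin n) S)
    (hβ : MvPolynomial.map h β ∈
      Ideal.span (Set.range fun j => MvPolynomial.map h (f j)) ⊔ (maximalIdeal R).map C) :
    β ∈ Ideal.span (Set.range f) ⊔ (maximalIdeal S).map C := by
  let resS := MvPolynomial.map (σ := Fin n) (residue S)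
  let resR := MvPolynomial.map (σ := Fin n) (residue R)
  let h' := ResidueField.map h
  letI := h'.toAlgebra
  obtain ⟨πl, hπl⟩ := LinearMap.exists_leftInverse_of_injective
    (Algebra.linearMap (ResidueField S) (ResidueField R))
    (LinearMap.ker_eq_bot.mpr h'.injective)
  let π' : MvPolynomial (Fin n) (ResidueField R) →ₗ[ResidueField S]
      MvPolynomial (Fin n) (ResidueField S) :=
    (AddMonoidAlgebra.coeffLinearEquiv (ResidueField S)).symm.toLinearMap ∘ₗ
      Finsupp.mapRange.linearMap πl ∘ₗ
        (AddMonoidAlgebra.coeffLinearEquiv (ResidueField S)).toLinearMap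
  have hcoeff : ∀ p v, coeff v (π' p) = πl (coeff v p) := fun p v => rfl
  have hπ : ∀ (p : MvPolynomial (Fin n) (ResidueField R)) (q : MvPolynomial (Fin n) (ResidueField S)),
      π' (p * MvPolynomial.map h' q) = π' p * q := fun p q => by
    ext v
    rw [hcoeff, coeff_mul, coeff_mul, map_sum]
    refine Finset.sum_congr rfl fun x _ => ?_
    rw [coeff_map, hcoeff, mul_comm (coeff x.1 p), mul_comm (πl _)]
    exact map_smul πl (coeff x.2 q) (coeff x.1 p)
  have hsq : ∀ p, resR (MvPolynomial.map h p) = MvPolynomial.map h' (resS p) := fun p => by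
    simp only [resR, resS, MvPolynomial.map_map]
    rw [ResidueField.map_comp_residue]
  obtain ⟨u, hu, w, hw, huw⟩ := Submodule.mem_sup.mp hβ
  obtain ⟨c, rfl⟩ := Ideal.mem_span_range_iff_exists_fun.mp hu
  have hw0 : resR w = 0 := by
    rw [← RingHom.mem_ker, MvPolynomial.ker_map, IsLocalRing.ker_residue]
    exact hw
  have h1 : MvPolynomial.map h' (resS β) = ∑ j, resR (c j) * MvPolynomial.map h' (resS (f j)) := by
    rw [← hsq, ← huw, map_add, hw0, add_zero, map_sum]
    exact Finset.sum_congr rfl fun j _ => by rw [map_mul, hsq]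
  have h2 := congrArg π' h1
  rw [← one_mul (MvPolynomial.map h' (resS β)), hπ, map_sum] at h2
  have hπ1 : π' 1 = 1 := by
    ext v
    rw [hcoeff]
    simp only [coeff_one]
    split_ifs
    · simpa using LinearMap.congr_fun hπl 1
    · exact map_zero _
  simp only [hπ, hπ1, one_mul] at h2
  choose c' hc' using fun j => MvPolynomial.map_surjective _ residue_surjective (π' (resR (c j)))
  refine Submodule.mem_sup.mpr ⟨∑ j, c' j * f j,
    Ideal.sum_mem _ fun j _ => Ideal.mul_mem_left _ _ (Ideal.subset_span ⟨j, rfl⟩),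
    β - ∑ j, c' j * f j, ?_, add_sub_cancel _ _⟩
  rw [← IsLocalRing.ker_residue, ← MvPolynomial.ker_map, RingHom.mem_ker, map_sub, map_sum]
  simp only [map_mul, hc', resS] at h2 ⊢
  rw [h2, sub_self]

theorem exists_dualBasis {S : Type u} [CommRing S] [IsLocalRing S] [IsNoetherianRing S] (k : ℕ) :
    ∃ (l : ℕ) (d : Fin l → ↥(maximalIdeal S ^ k))
      (χ : Fin l → ↥(maximalIdeal S ^ k) →ₗ[S] S ⧸ maximalIdeal S),
      (∀ i j, χ i (d j) = if i = j then 1 else 0) ∧
        maximalIdeal S ^ k ≤ Ideal.span (Set.range fun j => (d j : S)) ⊔ maximalIdeal S ^ (k + 1) := by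
  classical
  letI : Field (S ⧸ maximalIdeal S) := Ideal.Quotient.field _
  let V := TensorProduct S (S ⧸ maximalIdeal S) ↥(maximalIdeal S ^ k)
  let b : Module.Basis (Fin (Module.finrank (S ⧸ maximalIdeal S) V)) (S ⧸ maximalIdeal S) V :=
    Module.finBasis _ _
  choose d hd using fun i =>
    TensorProduct.mk_surjective S ↥(maximalIdeal S ^ k) (S ⧸ maximalIdeal S)
      Ideal.Quotient.mk_surjective (b i)
  refine ⟨_, d, fun i => (b.coord i).restrictScalars S ∘ₗ TensorProduct.mk S _ _ 1, fun i j => ?_, ?_⟩
  · simp only [LinearMap.comp_apply, LinearMap.restrictScalars_apply, hd, Module.Basis.coord_apply,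
      Module.Basis.repr_self, Finsupp.single_apply, eq_comm]
  · intro v hv
    have hy : (1 : S ⧸ maximalIdeal S) ⊗ₜ[S] (⟨v, hv⟩ : ↥(maximalIdeal S ^ k)) ∈
        Submodule.span S (Set.range b) := by
      rw [← Submodule.restrictScalars_span S (S ⧸ maximalIdeal S) Ideal.Quotient.mk_surjective,
        b.span_eq]
      trivial
    rw [← (funext hd : TensorProduct.mk S (S ⧸ maximalIdeal S) _ 1 ∘ d = b), Set.range_comp,
      Submodule.span_image] at hy
    obtain ⟨z, hz, hzy⟩ := hy
    refine Submodule.mem_sup.mpr ⟨z, ?_, v - z, ?_, add_sub_cancel _ _⟩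
    · have := Submodule.mem_map_of_mem (f := (maximalIdeal S ^ k).subtype) hz
      rw [Submodule.map_span, ← Set.range_comp] at this
      exact this
    · have h0 : (⟨v, hv⟩ : ↥(maximalIdeal S ^ k)) - z ∈
          maximalIdeal S • (⊤ : Submodule S ↥(maximalIdeal S ^ k)) := by
        refine (GrothLib.Flatness.one_tmul_eq_zero_iff _ _).mp ?_
        rw [TensorProduct.tmul_sub, sub_eq_zero]
        exact hzy.symm
      have := Submodule.mem_map_of_mem (f := (maximalIdeal S ^ k).subtype) h0
      rw [Submodule.map_smul'', Submodule.map_top, Submodule.range_subtype, smul_eq_mul,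
        ← pow_succ'] at this
      exact this

/-- The algebraic core of relative rigidity. -/
theorem exists_mul_mem_of_equalizer {R : Type u} [CommRing R] [IsLocalRing R] {n m s q : ℕ}
    (f : Fin s → MvPolynomial (Fin n) R) (g : Fin q → MvPolynomial (Fin m) R)
    (hflat : Module.Flat R (MvPolynomial (Fin m) R ⧸ Ideal.span (Set.range g)))
    (p₁ p₂ : Fin n → MvPolynomial (Fin m) R) (a : MvPolynomial (Fin n) R) (e : Fin n → R)
    (hf₁ : ∀ j, aeval p₁ (f j) ∈ Ideal.span (Set.range g))
    (hf₂ : ∀ j, aeval p₂ (f j) ∈ Ideal.span (Set.range g))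
    (ha : aeval p₁ a - aeval p₂ a ∈ Ideal.span (Set.range g))
    (hfe : ∀ j, eval e (f j) = 0) (hae : eval e a = 0)
    (hk : ∀ b, aeval p₁ b - aeval p₂ b ∈ Ideal.span (Set.range g) ⊔ (maximalIdeal R).map C →
      ∃ t : R, b - C t ∈ Ideal.span (Set.range f) ⊔ (maximalIdeal R).map C)
    (P : Ideal (MvPolynomial (Fin n) R)) [P.IsPrime]
    (hP : Ideal.span (Set.range f) ⊔ (maximalIdeal R).map C ≤ P) :
    ∃ u ∉ P, u * a ∈ Ideal.span (Set.range f) := by
  classical
  choose c₁ hc₁ using fun j => Ideal.mem_span_range_iff_exists_fun.mp (hf₁ j)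
  choose c₂ hc₂ using fun j => Ideal.mem_span_range_iff_exists_fun.mp (hf₂ j)
  obtain ⟨c₀, hc₀⟩ := Ideal.mem_span_range_iff_exists_fun.mp ha
  let T : Set R := (⋃ j, ↑(f j).coeffs) ∪ ((⋃ j, ↑(g j).coeffs) ∪ ((⋃ i, ↑(p₁ i).coeffs) ∪
    ((⋃ i, ↑(p₂ i).coeffs) ∪ ((↑a.coeffs ∪ Set.range e) ∪ ((⋃ j, ⋃ i, ↑(c₁ j i).coeffs) ∪
      ((⋃ j, ⋃ i, ↑(c₂ j i).coeffs) ∪ ⋃ i, ↑(c₀ i).coeffs))))))
  have hTfin : T.Finite := by
    refine .union ?_ (.union ?_ (.union ?_ (.union ?_ (.union (.union ?_ (Set.finite_range e))
      (.union ?_ (.union ?_ ?_)))))) <;>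
    first
      | exact Finset.finite_toSet _
      | exact Set.finite_iUnion fun i => Finset.finite_toSet _
      | exact Set.finite_iUnion fun j => Set.finite_iUnion fun i => Finset.finite_toSet _
  haveI : IsNoetherianRing (ULift.{u} ℤ) := isNoetherianRing_of_ringEquiv ℤ ULift.ringEquiv.symm
  obtain ⟨R₁, _, _, _, -, h₁, -, hinj₁, hloc₁, hT⟩ := exists_stage (Int.castRingHom R |>.comp
    (ULift.ringEquiv : ULift.{u} ℤ ≃+* ℤ).toRingHom) hTfin
  have lift : ∀ {k : ℕ} (p : MvPolynomial (Fin k) R), (p.coeffs : Set R) ⊆ T →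
      ∃ p₀, MvPolynomial.map h₁ p₀ = p := fun p hp => exists_map_eq h₁ (hp.trans hT)
  choose f₁ hf using fun j => lift (f j) fun x hx => Or.inl (Set.mem_iUnion_of_mem j hx)
  choose g₁ hg using fun j => lift (g j) fun x hx => Or.inr (Or.inl (Set.mem_iUnion_of_mem j hx))
  choose q₁ hq₁ using fun i => lift (p₁ i) fun x hx =>
    Or.inr (Or.inr (Or.inl (Set.mem_iUnion_of_mem i hx)))
  choose q₂ hq₂ using fun i => lift (p₂ i) fun x hx =>
    Or.inr (Or.inr (Or.inr (Or.inl (Set.mem_iUnion_of_mem i hx))))
  obtain ⟨a₁, ha₁⟩ := lift a fun x hx => Or.inr (Or.inr (Or.inr (Or.inr (Or.inl (Or.inl hx)))))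
  choose e₁ he using fun i => hT (show e i ∈ T from
    Or.inr (Or.inr (Or.inr (Or.inr (Or.inl (Or.inr ⟨i, rfl⟩))))))
  choose d₁ hd₁ using fun j i => lift (c₁ j i) fun x hx => Or.inr (Or.inr (Or.inr (Or.inr (Or.inr
    (Or.inl (Set.mem_iUnion_of_mem j (Set.mem_iUnion_of_mem i hx)))))))
  choose d₂ hd₂ using fun j i => lift (c₂ j i) fun x hx => Or.inr (Or.inr (Or.inr (Or.inr (Or.inr
    (Or.inr (Or.inl (Set.mem_iUnion_of_mem j (Set.mem_iUnion_of_mem i hx))))))))
  choose d₀ hd₀ using fun i => lift (c₀ i) fun x hx => Or.inr (Or.inr (Or.inr (Or.inr (Or.inr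
    (Or.inr (Or.inr (Set.mem_iUnion_of_mem i hx)))))))
  obtain rfl : (fun j => MvPolynomial.map h₁ (g₁ j)) = g := funext hg
  haveI := hloc₁
  obtain ⟨S, _, _, _, φ, h, hcomp, hinj, hloc, hgr⟩ := exists_gr_stage h₁ g₁ hflat
  haveI := hloc
  have hh : ∀ {k : ℕ} (p : MvPolynomial (Fin k) R₁),
      MvPolynomial.map h (MvPolynomial.map φ p) = MvPolynomial.map h₁ p := fun p => by
    rw [MvPolynomial.map_map, hcomp]
  set fS := fun j => MvPolynomial.map φ (f₁ j) with hfS
  set gS := fun j => MvPolynomial.map φ (g₁ j) with hgS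
  set r₁ := fun i => MvPolynomial.map φ (q₁ i) with hr₁
  set r₂ := fun i => MvPolynomial.map φ (q₂ i) with hr₂
  set aS := MvPolynomial.map φ a₁ with haS
  set eS := fun i => φ (e₁ i) with heS
  have hfSR : ∀ j, MvPolynomial.map h (fS j) = f j := fun j => (hh _).trans (hf j)
  have hgSR : ∀ j, MvPolynomial.map h (gS j) = MvPolynomial.map h₁ (g₁ j) := fun j => hh _
  have haSR : MvPolynomial.map h aS = a := (hh _).trans ha₁
  have hr₁R : ∀ p, MvPolynomial.map h (aeval r₁ p) = aeval p₁ (MvPolynomial.map h p) := fun p => by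
    induction p using MvPolynomial.induction_on with
    | C t => simp [MvPolynomial.algebraMap_eq]
    | add x y hx hy => simp only [map_add, hx, hy]
    | mul_X x i hx => simp only [map_mul, aeval_X, map_X, hx]; simp only [hr₁, hh, hq₁]
  have hr₂R : ∀ p, MvPolynomial.map h (aeval r₂ p) = aeval p₂ (MvPolynomial.map h p) := fun p => by
    induction p using MvPolynomial.induction_on with
    | C t => simp [MvPolynomial.algebraMap_eq]
    | add x y hx hy => simp only [map_add, hx, hy]
    | mul_X x i hx => simp only [map_mul, aeval_X, map_X, hx]; simp only [hr₂, hh, hq₂]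
  have heR : ∀ p, h (eval eS p) = eval e (MvPolynomial.map h p) := fun p => by
    induction p using MvPolynomial.induction_on with
    | C t => simp
    | add x y hx hy => simp only [map_add, hx, hy]
    | mul_X x i hx =>
      simp only [map_mul, eval_X, map_X, hx]
      rw [show h (eS i) = e i from (RingHom.congr_fun hcomp (e₁ i)).trans (he i)]
  have hinjP : ∀ k, Injective (MvPolynomial.map (σ := Fin k) h) := fun k =>
    MvPolynomial.map_injective h hinj
  set If := Ideal.span (Set.range fS)
  set Jg := Ideal.span (Set.range gS)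
  have hJg : ∀ (p : MvPolynomial (Fin m) S) (c : Fin q → MvPolynomial (Fin m) R₁),
      MvPolynomial.map h p = ∑ i, MvPolynomial.map h₁ (c i) * MvPolynomial.map h₁ (g₁ i) →
        p ∈ Jg := fun p c hpc => by
    have : p = ∑ i, MvPolynomial.map φ (c i) * gS i := by
      apply hinjP
      simp only [map_sum, map_mul, hh, hgSR, hpc]
    rw [this]
    exact Ideal.sum_mem _ fun i _ => Ideal.mul_mem_left _ _ (Ideal.subset_span ⟨i, rfl⟩)
  have hIf₁ : ∀ p ∈ If, aeval r₁ p ∈ Jg := fun p hp => by
    induction hp using Submodule.span_induction with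
    | mem p hp =>
      obtain ⟨j, rfl⟩ := hp
      exact hJg _ (d₁ j) (by rw [hr₁R, hfSR, ← hc₁ j]; simp only [hd₁])
    | zero => simp
    | add x y _ _ hx hy => rw [map_add]; exact add_mem hx hy
    | smul x y _ hy => rw [smul_eq_mul, map_mul]; exact Ideal.mul_mem_left _ _ hy
  have hIf₂ : ∀ p ∈ If, aeval r₂ p ∈ Jg := fun p hp => by
    induction hp using Submodule.span_induction with
    | mem p hp =>
      obtain ⟨j, rfl⟩ := hp
      exact hJg _ (d₂ j) (by rw [hr₂R, hfSR, ← hc₂ j]; simp only [hd₂])
    | zero => simp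
    | add x y _ _ hx hy => rw [map_add]; exact add_mem hx hy
    | smul x y _ hy => rw [smul_eq_mul, map_mul]; exact Ideal.mul_mem_left _ _ hy
  have haJ : aeval r₁ aS - aeval r₂ aS ∈ Jg :=
    hJg _ d₀ (by rw [map_sub, hr₁R, hr₂R, haSR, ← hc₀]; simp only [hd₀])
  have hae' : eval eS aS = 0 := hinj (by rw [heR, haSR, hae, map_zero])
  have hfe' : ∀ p ∈ If, eval eS p = 0 := fun p hp => by
    induction hp using Submodule.span_induction with
    | mem p hp =>
      obtain ⟨j, rfl⟩ := hp
      exact hinj (by rw [heR, hfSR, hfe, map_zero])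
    | zero => simp
    | add x y _ _ hx hy => simp [hx, hy]
    | smul x y _ hy => simp [hy]
  have hmapC : ∀ (I : Ideal S) {k l : ℕ} (F : MvPolynomial (Fin k) S →ₐ[S] MvPolynomial (Fin l) S)
      (p : MvPolynomial (Fin k) S), p ∈ I.map C → F p ∈ I.map C := fun I k l F p hp => by
    have := Ideal.mem_map_of_mem F.toRingHom hp
    rwa [Ideal.map_map, show F.toRingHom.comp C = C from RingHom.ext fun t => F.commutes t] at this
  have hCR : ∀ {k : ℕ} (p : MvPolynomial (Fin k) S), p ∈ (maximalIdeal S).map C →
      MvPolynomial.map h p ∈ (maximalIdeal R).map C := fun p hp => by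
    have := Ideal.mem_map_of_mem (MvPolynomial.map h) hp
    rw [Ideal.map_map, show (MvPolynomial.map h).comp C = C.comp h from
      RingHom.ext fun t => map_C _ _, ← Ideal.map_map] at this
    exact Ideal.map_mono (((IsLocalRing.local_hom_TFAE h).out 0 2).mp hloc) this
  -- induction on the power of the maximal ideal
  have hind : ∀ k, aS ∈ If ⊔ (maximalIdeal S ^ k).map C := by
    intro k
    induction k with
    | zero => simp [Ideal.map_top]
    | succ k ih =>
      obtain ⟨l, d, χ, hχ, hspan⟩ := exists_dualBasis (S := S) k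
      have hle : (maximalIdeal S ^ k).map C ≤
          Ideal.span (Set.range fun j => (C (d j : S) : MvPolynomial (Fin n) S)) ⊔
            (maximalIdeal S ^ (k + 1)).map C := by
        refine (Ideal.map_mono hspan).trans ?_
        rw [Ideal.map_sup, Ideal.map_span, ← Set.range_comp]
        rfl
      obtain ⟨u, hu, v, hv, huv⟩ := Submodule.mem_sup.mp ih
      obtain ⟨v', hv', w, hw, hvw⟩ := Submodule.mem_sup.mp (hle hv)
      obtain ⟨β, rfl⟩ := Ideal.mem_span_range_iff_exists_fun.mp hv'
      have hdiff : ∑ j, C (d j : S) * (aeval r₁ (β j) - aeval r₂ (β j)) ∈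
          Jg ⊔ (maximalIdeal S ^ (k + 1)).map C := by
        have h1 : ∑ j, C (d j : S) * (aeval r₁ (β j) - aeval r₂ (β j)) =
            (aeval r₁ aS - aeval r₂ aS) - (aeval r₁ u - aeval r₂ u) -
              (aeval r₁ w - aeval r₂ w) := by
          rw [← huv, ← hvw]
          simp only [map_add, map_sum, map_mul, aeval_C, MvPolynomial.algebraMap_eq, mul_sub,
            Finset.sum_sub_distrib, mul_comm (aeval r₁ (β _)), mul_comm (aeval r₂ (β _))]
          abel
        rw [h1]
        exact sub_mem (Submodule.mem_sup_left (sub_mem haJ (sub_mem (hIf₁ u hu) (hIf₂ u hu))))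
          (Submodule.mem_sup_right (sub_mem (hmapC _ _ _ hw) (hmapC _ _ _ hw)))
      have hβk := hgr k l d χ hχ _ hdiff
      -- the coordinates are constants mod `𝔪`
      have hconst : ∀ j, ∃ t : R, MvPolynomial.map h (β j) - C t ∈
          Ideal.span (Set.range f) ⊔ (maximalIdeal R).map C := by
        intro j
        refine hk _ ?_
        rw [← hr₁R, ← hr₂R, ← map_sub]
        obtain ⟨x, hx, y, hy, hxy⟩ := Submodule.mem_sup.mp (hβk j)
        rw [← hxy, map_add]
        refine Submodule.add_mem _ (Submodule.mem_sup_left ?_) (Submodule.mem_sup_right (hCR y hy))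
        have := Ideal.mem_map_of_mem (MvPolynomial.map h) hx
        rw [Ideal.map_span, ← Set.range_comp] at this
        simpa only [Function.comp_def, hgSR] using! this
      have heval : ∀ j, eval eS (β j) ∈ maximalIdeal S := by
        intro j
        have hevw : eval eS w ∈ maximalIdeal S ^ (k + 1) := by
          have := Ideal.mem_map_of_mem (MvPolynomial.eval eS) hw
          rwa [Ideal.map_map, show (MvPolynomial.eval eS).comp C = RingHom.id S from
            RingHom.ext fun t => eval_C t, Ideal.map_id] at this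
        have h0 : ∑ i, eval eS (β i) * (d i : S) + eval eS w = 0 := by
          have := hae'
          rw [← huv, ← hvw, map_add, hfe' u hu, zero_add] at this
          simpa using this
        let W : ↥(maximalIdeal S ^ k) := ⟨eval eS w, Ideal.pow_le_pow_right k.le_succ hevw⟩
        have hsum0 : ∑ i, eval eS (β i) • d i + W = 0 := Subtype.ext (by simpa [W] using h0)
        have hW : χ j W = 0 := by
          have hmem : W ∈ maximalIdeal S • (⊤ : Submodule S ↥(maximalIdeal S ^ k)) := by
            rw [← Submodule.comap_map_eq_of_injective (f := (maximalIdeal S ^ k).subtype)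
              Subtype.val_injective (maximalIdeal S • ⊤), Submodule.mem_comap, Submodule.map_smul'',
              Submodule.map_top, Submodule.range_subtype, smul_eq_mul, ← pow_succ']
            exact hevw
          refine Submodule.smul_induction_on hmem (fun t ht z _ => ?_) fun x y hx hy => ?_
          · rw [map_smul, Algebra.smul_def, Ideal.Quotient.algebraMap_eq,
              Ideal.Quotient.eq_zero_iff_mem.mpr ht, zero_mul]
          · rw [map_add, hx, hy, add_zero]
        have := congrArg (χ j) hsum0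
        rw [map_add, hW, add_zero, map_sum, map_zero] at this
        simp only [map_smul, hχ, smul_ite, smul_zero, Finset.sum_ite_eq, Finset.mem_univ,
          if_true, Algebra.smul_def, mul_ite, mul_one, mul_zero, Ideal.Quotient.algebraMap_eq] at this
        exact Ideal.Quotient.eq_zero_iff_mem.mp this
      have hmem : ∀ j, β j ∈ If ⊔ (maximalIdeal S).map C := by
        intro j
        obtain ⟨t, ht⟩ := hconst j
        have hevR : ∀ p ∈ Ideal.span (Set.range f) ⊔ (maximalIdeal R).map C,
            eval e p ∈ maximalIdeal R := fun p hp => by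
          have := Ideal.mem_map_of_mem (MvPolynomial.eval e) hp
          rw [Ideal.map_sup, Ideal.map_span, Ideal.map_map,
            show (MvPolynomial.eval e).comp C = RingHom.id R from RingHom.ext fun x => eval_C x, Ideal.map_id,
            ← Set.range_comp, show (MvPolynomial.eval e ∘ f) = fun _ => 0 from funext hfe] at this
          refine (sup_le ?_ le_rfl : _ ≤ maximalIdeal R) this
          exact Ideal.span_le.mpr (by rintro _ ⟨_, rfl⟩; exact zero_mem _)
        have htm : t ∈ maximalIdeal R := by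
          have h2 := hevR _ ht
          rw [map_sub, eval_C, ← heR] at h2
          have h3 : h (eval eS (β j)) ∈ maximalIdeal R :=
            map_nonunit h _ (heval j)
          simpa using sub_mem h3 h2
        have : MvPolynomial.map h (β j) ∈ Ideal.span (Set.range f) ⊔ (maximalIdeal R).map C := by
          simpa using add_mem ht (Submodule.mem_sup_right (Ideal.mem_map_of_mem C htm))
        refine mem_sup_of_map_mem h fS (β j) ?_
        simpa only [hfSR] using! this
      rw [← huv, ← hvw]
      refine Submodule.add_mem _ (Submodule.mem_sup_left hu) (Submodule.add_mem _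
        (Ideal.sum_mem _ fun j _ => ?_) (Submodule.mem_sup_right hw))
      obtain ⟨x, hx, y, hy, hxy⟩ := Submodule.mem_sup.mp (hmem j)
      rw [← hxy, add_mul]
      refine Submodule.add_mem _ (Submodule.mem_sup_left (Ideal.mul_mem_right _ _ hx))
        (Submodule.mem_sup_right ?_)
      rw [pow_succ', Ideal.map_mul]
      exact Ideal.mul_mem_mul hy (Ideal.mem_map_of_mem C (d j).2)
  -- Krull intersection at `P`
  let PS := P.comap (MvPolynomial.map h)
  haveI : PS.IsPrime := Ideal.IsPrime.comap _
  let L := Localization.AtPrime PS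
  haveI : IsNoetherianRing L := IsLocalization.isNoetherianRing PS.primeCompl _ inferInstance
  let IL := If.map (algebraMap (MvPolynomial (Fin n) S) L)
  have hIfP : ∀ j, fS j ∈ PS := fun j => by
    show MvPolynomial.map h (fS j) ∈ P
    rw [hfSR]
    exact hP (Submodule.mem_sup_left (Ideal.subset_span ⟨j, rfl⟩))
  have hmP : (maximalIdeal S).map C ≤ PS := fun p hp =>
    hP (Submodule.mem_sup_right (hCR p hp))
  have hin : algebraMap _ L aS ∈ IL := by
    rw [← Ideal.Quotient.eq_zero_iff_mem]
    suffices H : Ideal.Quotient.mk IL (algebraMap _ L aS) ∈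
        (⨅ i : ℕ, maximalIdeal L ^ i • ⊤ : Submodule L (L ⧸ IL)) by
      rwa [Ideal.iInf_pow_smul_eq_bot_of_isLocalRing _ (maximalIdeal.isMaximal L).ne_top,
        Submodule.mem_bot] at H
    rw [Submodule.mem_iInf]
    intro i
    obtain ⟨x, hx, y, hy, hxy⟩ := Submodule.mem_sup.mp (hind i)
    rw [← hxy, map_add, map_add, Ideal.Quotient.eq_zero_iff_mem.mpr (Ideal.mem_map_of_mem _ hx),
      zero_add]
    have hy' : algebraMap _ L y ∈ maximalIdeal L ^ i := by
      rw [← Localization.AtPrime.map_eq_maximalIdeal, ← Ideal.map_pow]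
      refine Ideal.mem_map_of_mem _ (Ideal.pow_right_mono hmP i ?_)
      rwa [Ideal.map_pow] at hy
    have key : maximalIdeal L ^ i • (⊤ : Submodule L (L ⧸ IL)) =
        Submodule.map IL.mkQ (maximalIdeal L ^ i) := by
      conv_rhs => rw [← Ideal.mul_top (maximalIdeal L ^ i), ← smul_eq_mul]
      rw [Submodule.map_smul'', Submodule.map_top, Submodule.range_mkQ]
    rw [key]
    exact ⟨_, hy', rfl⟩
  obtain ⟨u, hu, hua⟩ := (IsLocalization.algebraMap_mem_map_algebraMap_iff PS.primeCompl L If aS).mp hin
  refine ⟨MvPolynomial.map h u, hu, ?_⟩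
  have := Ideal.mem_map_of_mem (MvPolynomial.map h) hua
  rw [Ideal.map_span, ← Set.range_comp, map_mul, haSR] at this
  simpa only [Function.comp_def, hfSR] using! this

end GrothLib.Rigidity
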