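import Groth.Agent.Lib.Rigidity.Relative.Alg
import Mathlib.RingTheory.Finiteness.FinitePresentationLocal
import Mathlib.RingTheory.Flat.Basic

/-!
# The algebraic core, for finitely presented algebras
-/

universe u

namespace GrothLib.Rigidity

open IsLocalRing MvPolynomial Function

theorem exists_mul_eq_zero_of_equalizer {R : Type u} [CommRing R] [IsLocalRing R]
    {A A' : Type u} [CommRing A] [Algebra R A] [Algebra.FinitePresentation R A] [CommRing A']
    [Algebra R A'] [Algebra.FinitePresentation R A'] [Module.Flat R A']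
    (ρ₁ ρ₂ : A →ₐ[R] A') (ε : A →ₐ[R] R) (a : A) (ha : ρ₁ a = ρ₂ a) (hε : ε a = 0)
    (hk : ∀ b, ρ₁ b - ρ₂ b ∈ (maximalIdeal R).map (algebraMap R A') →
      ∃ t : R, b - algebraMap R A t ∈ (maximalIdeal R).map (algebraMap R A))
    (P : Ideal A) [P.IsPrime] (hP : (maximalIdeal R).map (algebraMap R A) ≤ P) :
    ∃ u ∉ P, u * a = 0 := by
  obtain ⟨n, α, hα, hαfg⟩ := ‹Algebra.FinitePresentation R A›.out
  obtain ⟨m, β, hβ, hβfg⟩ := ‹Algebra.FinitePresentation R A'›.out
  obtain ⟨s, f, hf⟩ := Submodule.fg_iff_exists_fin_generating_family.mp hαfg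
  obtain ⟨q, g, hg⟩ := Submodule.fg_iff_exists_fin_generating_family.mp hβfg
  have hf' : Ideal.span (Set.range f) = RingHom.ker α.toRingHom := hf
  have hg' : Ideal.span (Set.range g) = RingHom.ker β.toRingHom := hg
  have hflat : Module.Flat R (MvPolynomial (Fin m) R ⧸ Ideal.span (Set.range g)) := by
    rw [hg']
    exact Module.Flat.of_linearEquiv (Ideal.quotientKerAlgEquivOfSurjective hβ).toLinearEquiv
  choose p₁ hp₁ using fun i => hβ (ρ₁ (α (X i)))
  choose p₂ hp₂ using fun i => hβ (ρ₂ (α (X i)))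
  have key₁ : ∀ p, β (aeval p₁ p) = ρ₁ (α p) := fun p => by
    change (β.comp (aeval p₁)) p = (ρ₁.comp α) p
    refine DFunLike.congr_fun (MvPolynomial.algHom_ext fun i => ?_) p
    simp [hp₁]
  have key₂ : ∀ p, β (aeval p₂ p) = ρ₂ (α p) := fun p => by
    change (β.comp (aeval p₂)) p = (ρ₂.comp α) p
    refine DFunLike.congr_fun (MvPolynomial.algHom_ext fun i => ?_) p
    simp [hp₂]
  obtain ⟨a', rfl⟩ := hα a
  set e : Fin n → R := fun i => ε (α (X i))
  have keye : ∀ p, MvPolynomial.eval e p = ε (α p) := fun p => by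
    have h : (aeval e : MvPolynomial (Fin n) R →ₐ[R] R) = ε.comp α :=
      MvPolynomial.algHom_ext fun i => by simp [e]
    exact (DFunLike.congr_fun h p)
  have hfα : ∀ j, α (f j) = 0 := fun j => by
    have : f j ∈ RingHom.ker α.toRingHom := hf' ▸ Ideal.subset_span ⟨j, rfl⟩
    exact this
  have hmapA : ∀ x, x ∈ Ideal.span (Set.range f) ⊔ (maximalIdeal R).map C ↔
      α x ∈ (maximalIdeal R).map (algebraMap R A) := fun x => by
    rw [hf', sup_comm, ← Ideal.comap_map_of_surjective' α.toRingHom hα, Ideal.map_map, Ideal.mem_comap,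
      show α.toRingHom.comp C = algebraMap R A from RingHom.ext fun t => α.commutes t]
    rfl
  have hmapA' : ∀ x, x ∈ Ideal.span (Set.range g) ⊔ (maximalIdeal R).map C ↔
      β x ∈ (maximalIdeal R).map (algebraMap R A') := fun x => by
    rw [hg', sup_comm, ← Ideal.comap_map_of_surjective' β.toRingHom hβ, Ideal.map_map, Ideal.mem_comap,
      show β.toRingHom.comp C = algebraMap R A' from RingHom.ext fun t => β.commutes t]
    rfl
  have hgmem : ∀ x, β x = 0 → x ∈ Ideal.span (Set.range g) := fun x hx => by rw [hg']; exact hx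
  haveI : (P.comap α.toRingHom).IsPrime := Ideal.IsPrime.comap _
  obtain ⟨u, hu, hua⟩ := exists_mul_mem_of_equalizer f g hflat p₁ p₂ a' e
    (fun j => hgmem _ (by rw [key₁, hfα, map_zero]))
    (fun j => hgmem _ (by rw [key₂, hfα, map_zero]))
    (hgmem _ (by rw [map_sub, key₁, key₂, ha, sub_self]))
    (fun j => by rw [keye, hfα, map_zero]) (by rw [keye, hε])
    (fun b hb => by
      obtain ⟨t, ht⟩ := hk (α b) (by
        rw [← key₁, ← key₂, ← map_sub]
        exact (hmapA' _).mp hb)
      refine ⟨t, (hmapA _).mpr ?_⟩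
      rwa [map_sub, ← MvPolynomial.algebraMap_eq, α.commutes])
    (P.comap α.toRingHom) (fun x hx => hP ((hmapA x).mp hx))
  refine ⟨α u, hu, ?_⟩
  rw [← map_mul]
  rw [hf'] at hua
  exact hua

theorem pi_mem_map {R : Type u} [CommRing R] {ι : Type*} [Fintype ι] {A : ι → Type u}
    [∀ i, CommRing (A i)] [∀ i, Algebra R (A i)] (I : Ideal R) (x : ∀ i, A i)
    (h : ∀ i, x i ∈ I.map (algebraMap R (A i))) : x ∈ I.map (algebraMap R (∀ i, A i)) := by
  classical
  rw [← Finset.univ_sum_single x]
  refine Ideal.sum_mem _ fun i _ => ?_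
  refine Submodule.span_induction (p := fun z _ => Pi.single i z ∈ I.map (algebraMap R (∀ i, A i)))
    ?_ ?_ ?_ ?_ (h i)
  · rintro _ ⟨t, ht, rfl⟩
    have : Pi.single i (algebraMap R (A i) t) = algebraMap R (∀ i, A i) t * Pi.single i 1 := by
      ext j
      by_cases hj : j = i
      · subst hj; simp
      · simp [Pi.single_eq_of_ne hj]
    rw [this]
    exact Ideal.mul_mem_right _ _ (Ideal.mem_map_of_mem _ ht)
  · simp
  · intro a b _ _ ha hb
    rw [Pi.single_add]
    exact add_mem ha hb
  · intro c z _ hz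
    have : Pi.single i (c • z) = Pi.single i c * Pi.single i z := (Pi.single_mul i c z)
    rw [this]
    exact Ideal.mul_mem_left _ _ hz

end GrothLib.Rigidity
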