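import Groth.Agent.Lib.Rigidity.Relative.Lemma

/-!
# Rigidity over an arbitrary base, without a section
-/

universe u

open CategoryTheory Limits AlgebraicGeometry Opposite TopologicalSpace

namespace GrothLib.Rigidity

/-- Rigidity (GIT 6.1) without a section: the collapsed locus is open and closed, and the morphism
factors through the base over it. -/
theorem exists_isClopen_factor {X T Y S : Scheme.{u}} (g : X ⟶ T) [IsProper g] [Flat g]
    [LocallyOfFinitePresentation g] [FibrewiseConst g] [Surjective g]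
    (p : T ⟶ S) (q : Y ⟶ S) [IsSeparated q] (f : X ⟶ Y) (hf : f ≫ q = g ≫ p) :
    ∃ W : T.Opens, IsClosed (W : Set T) ∧
      (∀ t : T, (f '' (g ⁻¹' {t})).Subsingleton ↔ t ∈ W) ∧
      ∃ k : (W : Scheme.{u}) ⟶ Y, (g ⁻¹ᵁ W).ι ≫ f = (g ∣_ W) ≫ k := by
  have hδ : pullback.lift (𝟙 X) (𝟙 X) rfl ≫ pullback.snd g g = 𝟙 X := pullback.lift_snd _ _ _
  obtain ⟨W₂, hW₂c, hW₂, hW₂eq⟩ := exists_isClopen_factor_of_section (pullback.snd g g)
    (pullback.lift (𝟙 X) (𝟙 X) rfl) hδ (g ≫ p) q (pullback.fst g g ≫ f)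
    (by rw [Category.assoc, hf, pullback.condition_assoc])
  rw [pullback.lift_fst_assoc, Category.id_comp] at hW₂eq
  -- `W₂` is the preimage of the collapsed locus
  have hiff : ∀ x : X, x ∈ W₂ ↔ (f '' (g ⁻¹' {g x})).Subsingleton := by
    intro x
    rw [← hW₂ x]
    have : (pullback.fst g g ≫ f) '' (pullback.snd g g ⁻¹' {x}) = f '' (g ⁻¹' {g x}) := by
      ext y
      constructor
      · rintro ⟨w, hw, rfl⟩
        refine ⟨pullback.fst g g w, ?_, rfl⟩
        show g (pullback.fst g g w) = g x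
        rw [← Scheme.Hom.comp_apply, pullback.condition, Scheme.Hom.comp_apply, hw]
      · rintro ⟨x', hx', rfl⟩
        obtain ⟨w, hw₁, hw₂⟩ := Scheme.Pullback.exists_preimage_pullback (f := g) (g := g) x' x hx'
        exact ⟨w, hw₂, by rw [Scheme.Hom.comp_apply, hw₁]⟩
    rw [this]
  have hpre : (W₂ : Set X) = g ⁻¹' {t | (f '' (g ⁻¹' {t})).Subsingleton} := Set.ext hiff
  have hq : Topology.IsQuotientMap g := g.isOpenMap.isQuotientMap g.continuous g.surjective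
  have hWo : IsOpen {t : T | (f '' (g ⁻¹' {t})).Subsingleton} :=
    hq.isOpen_preimage.mp (hpre ▸ W₂.2)
  have hWc : IsClosed {t : T | (f '' (g ⁻¹' {t})).Subsingleton} :=
    hq.isClosed_preimage.mp (hpre ▸ hW₂c)
  refine ⟨⟨_, hWo⟩, hWc, fun t => Iff.rfl, ?_⟩
  set W : T.Opens := ⟨_, hWo⟩
  haveI : Surjective (g ∣_ W) :=
    MorphismProperty.of_isPullback (P := @Surjective) (isPullback_morphismRestrict g W).flip inferInstance
  suffices h : ∀ {Z : Scheme.{u}} (a b : Z ⟶ (g ⁻¹ᵁ W : Scheme.{u})), a ≫ (g ∣_ W) = b ≫ (g ∣_ W) →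
      a ≫ (g ⁻¹ᵁ W).ι ≫ f = b ≫ (g ⁻¹ᵁ W).ι ≫ f from
    ⟨EffectiveEpi.desc (g ∣_ W) ((g ⁻¹ᵁ W).ι ≫ f) h, (EffectiveEpi.fac _ _ h).symm⟩
  intro Z a b hab
  let w : Z ⟶ pullback g g := pullback.lift (a ≫ (g ⁻¹ᵁ W).ι) (b ≫ (g ⁻¹ᵁ W).ι) (by
    simp only [Category.assoc, ← morphismRestrict_ι]
    rw [reassoc_of% hab])
  let w' : Z ⟶ (pullback.snd g g ⁻¹ᵁ W₂ : Scheme.{u}) :=
    IsOpenImmersion.lift (pullback.snd g g ⁻¹ᵁ W₂).ι w (by
      rintro _ ⟨z, rfl⟩
      rw [Scheme.Opens.range_ι]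
      show pullback.snd g g (w z) ∈ W₂
      rw [hiff, ← Scheme.Hom.comp_apply w, pullback.lift_snd]
      exact (b z).2)
  have hw' : w' ≫ (pullback.snd g g ⁻¹ᵁ W₂).ι = w := IsOpenImmersion.lift_fac _ _ _
  have h := congrArg (fun k => w' ≫ k) hW₂eq
  simpa only [reassoc_of% hw', w, pullback.lift_fst_assoc, pullback.lift_snd_assoc, Category.assoc]
    using h

end GrothLib.Rigidity
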