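import Mathlib.RingTheory.Flat.Equalizer
import Mathlib.RingTheory.Flat.FaithfullyFlat.Basic
import Mathlib.RingTheory.FinitePresentation
import Mathlib.RingTheory.Nakayama
import Mathlib.RingTheory.TensorProduct.Quotient
import Mathlib.LinearAlgebra.TensorProduct.RightExactness
import Mathlib.FieldTheory.IsAlgClosed.AlgebraicClosure

/-!
# Isomorphism on geometric fibres, algebra version
-/

universe u

open TensorProduct

namespace GrothLib.Rigidity

theorem exists_ne_smul_top {A C : Type u} [CommRing A] [AddCommGroup C] [Module A C]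
    [Module.Finite A C] [Nontrivial C] :
    ∃ q : Ideal A, q.IsMaximal ∧ q • (⊤ : Submodule A C) ≠ ⊤ := by
  have hne : Module.annihilator A C ≠ ⊤ := by
    intro h
    have h1 : ∀ x : C, x = 0 := fun x => by
      simpa using Module.mem_annihilator.mp (h ▸ Submodule.mem_top : (1 : A) ∈ _) x
    exact not_subsingleton C ⟨fun a b => (h1 a).trans (h1 b).symm⟩
  obtain ⟨q, hq, hle⟩ := Ideal.exists_le_maximal _ hne
  refine ⟨q, hq, fun h => ?_⟩
  obtain ⟨r, hr, hr0⟩ := Submodule.exists_sub_one_mem_and_smul_eq_zero_of_fg_of_le_smul q ⊤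
    Module.Finite.fg_top h.ge
  have : r ∈ q := hle (Module.mem_annihilator.mpr fun x => hr0 x trivial)
  exact hq.ne_top ((Ideal.eq_top_iff_one q).mpr (by simpa using sub_mem this hr))

/-- A finite `A`-module whose base changes to the geometric points of `R` vanish is zero. -/
theorem subsingleton_of_forall_tensor {R A C : Type u} [CommRing R] [CommRing A] [Algebra R A]
    [AddCommGroup C] [Module R C] [Module A C] [IsScalarTower R A C] [Module.Finite A C]
    (h : ∀ (K : Type u) [Field K] [IsAlgClosed K] [Algebra R K], Subsingleton (K ⊗[R] C)) :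
    Subsingleton C := by
  by_contra hC
  haveI : Nontrivial C := not_subsingleton_iff_nontrivial.mp hC
  obtain ⟨q, hq, hne⟩ := exists_ne_smul_top (A := A) (C := C)
  letI : Field (A ⧸ q) := Ideal.Quotient.field q
  let L := A ⧸ q
  let K := AlgebraicClosure L
  haveI := h K
  haveI : Subsingleton (K ⊗[L] (L ⊗[R] C)) :=
    (AlgebraTensorModule.cancelBaseChange R L K K C).toEquiv.subsingleton
  haveI : Subsingleton (L ⊗[R] C) := Module.FaithfullyFlat.lTensor_reflects_triviality L K _
  -- `L ⊗[R] C` surjects onto `L ⊗[A] C`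
  let ψ : L ⊗[R] C →ₗ[R] L ⊗[A] C := TensorProduct.lift
    (LinearMap.mk₂ R (fun l c => l ⊗ₜ[A] c) (fun _ _ _ => add_tmul _ _ _)
      (fun r l c => (smul_tmul' r l c).symm) (fun _ _ _ => tmul_add _ _ _)
      (fun r l c => tmul_smul r l c))
  have hψ : Function.Surjective ψ := by
    intro x
    induction x using TensorProduct.induction_on with
    | zero => exact ⟨0, map_zero _⟩
    | add a b ha hb =>
      obtain ⟨a, rfl⟩ := ha; obtain ⟨b, rfl⟩ := hb
      exact ⟨a + b, map_add _ _ _⟩
    | tmul l c => exact ⟨l ⊗ₜ c, rfl⟩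
  haveI : Subsingleton (L ⊗[A] C) := hψ.subsingleton
  have : Subsingleton (C ⧸ q • (⊤ : Submodule A C)) :=
    (TensorProduct.quotTensorEquivQuotSMul C q).symm.toEquiv.subsingleton
  exact hne (Submodule.Quotient.subsingleton_iff.mp this)

/-- A finite map of finitely presented algebras with flat target which is bijective over all
geometric points of the base is bijective. -/
theorem bijective_of_forall_geometric_fibre {R A B : Type u} [CommRing R] [CommRing A] [CommRing B]
    [Algebra R A] [Algebra.FiniteType R A] [Algebra R B] [Algebra.FinitePresentation R B]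
    [Module.Flat R B] (φ : A →ₐ[R] B) (hφ : φ.toRingHom.Finite)
    (h : ∀ (K : Type u) [Field K] [IsAlgClosed K] [Algebra R K],
      Function.Bijective (φ.toLinearMap.lTensor K)) : Function.Bijective φ := by
  letI := φ.toRingHom.toAlgebra
  haveI : IsScalarTower R A B := IsScalarTower.of_algebraMap_eq fun r => (φ.commutes r).symm
  haveI : Module.Finite A B := hφ
  have hsurj : Function.Surjective φ := by
    let N : Submodule A B := LinearMap.range (Algebra.linearMap A B)
    have : Subsingleton (B ⧸ N) := by
      refine subsingleton_of_forall_tensor (R := R) (A := A) fun K _ _ _ => ?_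
      let p : B →ₗ[R] B ⧸ N := N.mkQ.restrictScalars R
      have hp : p.lTensor K = 0 := by
        have h0 : p ∘ₗ φ.toLinearMap = 0 := LinearMap.ext fun a =>
          (Submodule.Quotient.mk_eq_zero _).mpr ⟨a, rfl⟩
        refine LinearMap.ext fun x => ?_
        obtain ⟨y, rfl⟩ := (h K).2 x
        rw [← LinearMap.lTensor_comp_apply, h0, LinearMap.lTensor_zero]
        rfl
      refine ⟨fun x y => ?_⟩
      obtain ⟨x, rfl⟩ := LinearMap.lTensor_surjective K (g := p) N.mkQ_surjective x
      obtain ⟨y, rfl⟩ := LinearMap.lTensor_surjective K (g := p) N.mkQ_surjective y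
      rw [hp]
      rfl
    intro b
    have : Submodule.Quotient.mk (p := N) b = 0 := Subsingleton.elim _ _
    exact (Submodule.Quotient.mk_eq_zero _).mp this
  refine ⟨?_, hsurj⟩
  have hfg : (RingHom.ker φ.toRingHom).FG := by
    obtain ⟨n, π, hπ⟩ := Algebra.FiniteType.iff_quotient_mvPolynomial''.mp ‹Algebra.FiniteType R A›
    have hk := Algebra.FinitePresentation.ker_fg_of_mvPolynomial (φ.comp π) (hsurj.comp hπ)
    have : RingHom.ker φ.toRingHom = (RingHom.ker (φ.comp π).toRingHom).map π.toRingHom := by
      rw [show RingHom.ker (φ.comp π).toRingHom = (RingHom.ker φ.toRingHom).comap π.toRingHom from rfl,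
        Ideal.map_comap_of_surjective π.toRingHom hπ]
    rw [this]
    exact hk.map _
  haveI : Module.Finite A ↥(RingHom.ker φ.toRingHom) := Module.Finite.of_fg hfg
  have : Subsingleton ↥(RingHom.ker φ.toRingHom) := by
    refine subsingleton_of_forall_tensor (R := R) (A := A) fun K _ _ _ => ?_
    let i : ↥(RingHom.ker φ.toRingHom) →ₗ[R] A := (RingHom.ker φ.toRingHom).subtype.restrictScalars R
    have hex : Function.Exact i φ.toLinearMap := fun a =>
      ⟨fun ha => ⟨⟨a, ha⟩, rfl⟩, fun ⟨b, hb⟩ => hb ▸ b.2⟩
    have hi : Function.Injective (i.lTensor K) :=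
      LinearMap.lTensor_injective_of_exact_of_flat φ.toLinearMap hsurj i Subtype.val_injective hex K
    refine ⟨fun x y => hi ((h K).1 ?_)⟩
    rw [← LinearMap.lTensor_comp_apply, ← LinearMap.lTensor_comp_apply, hex.linearMap_comp_eq_zero,
      LinearMap.lTensor_zero]
    rfl
  rw [injective_iff_map_eq_zero]
  intro a ha
  exact congrArg Subtype.val (Subsingleton.elim (⟨a, ha⟩ : ↥(RingHom.ker φ.toRingHom)) 0)

end GrothLib.Rigidity
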