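import Groth.Agent.Lib.Rigidity.Field
import Groth.Agent.Lib.Dim.Morphism
import Groth.Agent.Lib.Dim.QuasiFinite
import Groth.Agent.Lib.RedSub.Basic
import Mathlib.AlgebraicGeometry.ZariskisMainTheorem
import Mathlib.AlgebraicGeometry.AlgClosed.Basic

/-!
# Complete varieties with a unital multiplication (Mumford, Abelian varieties, §4 appendix)

For `V` proper integral over an algebraically closed field with `m : V ⊗ V ⟶ V` having a two-sided
unit `e`, all left translations are isomorphisms.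
-/

universe u

open CategoryTheory Limits AlgebraicGeometry TopologicalSpace
open MonoidalCategory CartesianMonoidalCategory

namespace GrothLib.Rigidity

variable {K : Type u} [Field K]

/-- A closed map between varieties with one finite fibre, not dropping dimension, is surjective. -/
theorem surjective_of_subsingleton_fibre {X Y : Scheme.{u}} [IsIntegral X] [IsIntegral Y]
    (q : Y ⟶ Spec (CommRingCat.of K)) [LocallyOfFiniteType q] (f : X ⟶ Y) [LocallyOfFiniteType f]
    [UniversallyClosed f] (hdim : topologicalKrullDim Y ≤ topologicalKrullDim X) (x : X)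
    (hx : (f ⁻¹' {f x}).Subsingleton) : Function.Surjective f := by
  let U : X.Opens := ⟨{z | f.QuasiFiniteAt z}, f.isOpen_quasiFiniteAt⟩
  have hxU : x ∈ U := by
    show f.QuasiFiniteAt x
    rw [Scheme.Hom.quasiFiniteAt_iff_isOpen_singleton_asFiber]
    haveI : Subsingleton (f.fiber (f x)) := by
      haveI : Subsingleton ↥(f ⁻¹' {f x}) := hx.coe_sort
      exact (f.fiberHomeo (f x)).toEquiv.subsingleton
    exact isOpen_discrete _
  haveI : Nonempty U := ⟨⟨x, hxU⟩⟩
  haveI : LocallyQuasiFinite (U.ι ≫ f) := by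
    rw [locallyQuasiFinite_iff_isDiscrete_preimage_singleton]
    intro y
    refine isDiscrete_iff_discreteTopology.mpr (discreteTopology_iff_isOpen_singleton.mpr ?_)
    rintro ⟨z, hz⟩
    have hz' : (U.ι ≫ f).QuasiFiniteAt z := by
      rw [Scheme.Hom.quasiFiniteAt_comp_iff_of_isOpenImmersion]
      exact z.2
    rw [Scheme.Hom.quasiFiniteAt_iff_isOpen_singleton_asFiber] at hz'
    subst hz
    rw [← ((U.ι ≫ f).fiberHomeo _).isOpen_image] at hz'
    simp only [Scheme.Hom.asFiber, Set.image_singleton] at hz'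
    erw [Homeomorph.apply_symm_apply] at hz'
    exact hz'
  obtain ⟨n, hn, hn'⟩ := GrothLib.Dim.dim_closure_range_eq (K := K) (U.ι ≫ f) q
  obtain ⟨n', hn'', hnU⟩ := GrothLib.Dim.exists_nat_dim_open (K := K) (f ≫ q)
  have hUn : topologicalKrullDim U = n' := hnU U inferInstance
  have hUscheme : topologicalKrullDim (U : Scheme.{u}) = topologicalKrullDim U := rfl
  have huniv : closure (Set.range (U.ι ≫ f)) = Set.univ := by
    refine GrothLib.Dim.eq_univ_of_dim_le isClosed_closure ?_ hn'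
    rw [hn', ← hn, hUscheme, hUn, ← hn'']
    exact hdim
  have hsub : closure (Set.range (U.ι ≫ f)) ⊆ Set.range f := by
    refine closure_minimal ?_ f.isClosedMap.isClosed_range
    rintro _ ⟨z, rfl⟩
    exact ⟨U.ι z, rfl⟩
  exact fun y => hsub (huniv ▸ Set.mem_univ y)

/-- A closed subset of an algebraic variety dominating an irreducible variety has a component
doing so, as a reduced closed subscheme. -/
theorem exists_integral_closed_surjective {X Y : Scheme.{u}} (p : X ⟶ Spec (CommRingCat.of K))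
    [LocallyOfFiniteType p] [CompactSpace X] [IrreducibleSpace Y] (f : X ⟶ Y) [UniversallyClosed f]
    (C : Set X) (hC : IsClosed C) (hsurj : f '' C = Set.univ) :
    ∃ (Γ : Scheme.{u}) (ι : Γ ⟶ X), IsClosedImmersion ι ∧ IsIntegral Γ ∧ Set.range ι ⊆ C ∧
      Function.Surjective (ι ≫ f) := by
  haveI : IsLocallyNoetherian X := LocallyOfFiniteType.isLocallyNoetherian p
  haveI : IsNoetherian X := {}
  have hfin : (irreducibleComponents C).Finite := NoetherianSpace.finite_irreducibleComponents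
  have hcov : (⋃ Z ∈ irreducibleComponents C, f '' (Subtype.val '' Z)) = Set.univ := by
    rw [← Set.image_iUnion₂, ← Set.image_iUnion₂, ← Set.sUnion_eq_biUnion, sUnion_irreducibleComponents,
      Set.image_univ, Subtype.range_coe, hsurj]
  classical
  obtain ⟨z, hz, hYZ⟩ := isIrreducible_iff_sUnion_isClosed.mp
      (IrreducibleSpace.isIrreducible_univ Y)
    (hfin.toFinset.image (fun Z : Set C => f '' (Subtype.val '' Z)))
    (by
      intro z hz
      obtain ⟨Z, hZ, rfl⟩ := Finset.mem_image.mp hz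
      exact f.isClosedMap _ (hC.isClosedMap_subtype_val _
        (isClosed_of_mem_irreducibleComponents Z ((Set.Finite.mem_toFinset _).mp hZ))))
    (by rw [Finset.coe_image, Set.Finite.coe_toFinset, Set.sUnion_image, hcov])
  obtain ⟨Z, hZ', rfl⟩ := Finset.mem_image.mp hz
  have hZ : Z ∈ irreducibleComponents C := (Set.Finite.mem_toFinset _).mp hZ'
  let S : Closeds X := ⟨Subtype.val '' Z, hC.isClosedMap_subtype_val _ (isClosed_of_mem_irreducibleComponents Z hZ)⟩
  let Γ := (Scheme.IdealSheafData.vanishingIdeal S).subscheme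
  let ι := (Scheme.IdealSheafData.vanishingIdeal S).subschemeι
  have hr : Set.range ι = Subtype.val '' Z := GrothLib.RedSub.range_subschemeι_vanishingIdeal S
  haveI : IsReduced Γ := GrothLib.RedSub.isReduced_subscheme_vanishingIdeal S
  haveI : IrreducibleSpace Γ := by
    have h1 : IsIrreducible (ι '' Set.univ) := by
      rw [Set.image_univ, hr]
      exact (hZ.1).image _ continuous_subtype_val.continuousOn
    have hind := ι.isClosedEmbedding.isEmbedding.isInducing
    refine (irreducibleSpace_def _).mpr ⟨?_, ?_⟩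
    · obtain ⟨_, ⟨a, -, rfl⟩⟩ := h1.1
      exact ⟨a, trivial⟩
    · rintro A B hA hB ⟨a, -, ha⟩ ⟨b, -, hb⟩
      obtain ⟨A', hA', rfl⟩ := hind.isOpen_iff.mp hA
      obtain ⟨B', hB', rfl⟩ := hind.isOpen_iff.mp hB
      obtain ⟨_, ⟨c, -, rfl⟩, hc⟩ := h1.2 A' B' hA' hB' ⟨ι a, ⟨a, trivial, rfl⟩, ha⟩ ⟨ι b, ⟨b, trivial, rfl⟩, hb⟩
      exact ⟨c, trivial, hc⟩
  refine ⟨Γ, ι, inferInstance, isIntegral_of_irreducibleSpace_of_isReduced Γ, ?_, fun y => ?_⟩
  · rw [hr]; exact Subtype.coe_image_subset _ _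
  · obtain ⟨z, hz, rfl⟩ := hYZ (Set.mem_univ y)
    obtain ⟨w, rfl⟩ := hr.symm ▸ hz
    exact ⟨w, rfl⟩

variable [IsAlgClosed K] {V : Over (Spec (CommRingCat.of K))}

/-- All left translations of a proper integral unital magma are isomorphisms. -/
theorem isIso_leftTranslation [IsProper V.hom] [GeometricallyIntegral V.hom] (e : 𝟙_ _ ⟶ V)
    (m : V ⊗ V ⟶ V) (h₁ : lift (𝟙 V) (toUnit V ≫ e) ≫ m = 𝟙 V)
    (h₂ : lift (toUnit V ≫ e) (𝟙 V) ≫ m = 𝟙 V) (x : 𝟙_ _ ⟶ V) :
    IsIso (lift (toUnit V ≫ x) (𝟙 V) ≫ m) := by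
  let S := Spec (CommRingCat.of K)
  let pt : S := IsLocalRing.closedPoint K
  haveI : IsIntegral V.left := GeometricallyIntegral.isIntegral_of_subsingleton V.hom
  haveI : IsLocallyNoetherian V.left := LocallyOfFiniteType.isLocallyNoetherian V.hom
  haveI : IsIntegral (V ⊗ V).left := inferInstanceAs (IsIntegral (pullback V.hom V.hom))
  haveI : IsProper (V ⊗ V).hom := by dsimp; infer_instance
  haveI : JacobsonSpace (V ⊗ V).left := LocallyOfFiniteType.jacobsonSpace (Y := Spec _) (V ⊗ V).hom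
  haveI : CompactSpace (V ⊗ V).left := (quasiCompact_iff_compactSpace (V ⊗ V).hom).mp inferInstance
  have right_unit : ∀ {T : Over S} (a : T ⟶ V), lift a (toUnit T ≫ e) ≫ m = a := fun {T} a => by
    calc lift a (toUnit T ≫ e) ≫ m = a ≫ lift (𝟙 V) (toUnit V ≫ e) ≫ m := by
          rw [comp_lift_assoc, Category.comp_id, ← Category.assoc a (toUnit V),
            toUnit_unique (a ≫ toUnit V) (toUnit T)]
      _ = a := by rw [h₁, Category.comp_id]
  have left_unit : ∀ {T : Over S} (a : T ⟶ V), lift (toUnit T ≫ e) a ≫ m = a := fun {T} a => by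
    calc lift (toUnit T ≫ e) a ≫ m = a ≫ lift (toUnit V ≫ e) (𝟙 V) ≫ m := by
          rw [comp_lift_assoc, Category.comp_id, ← Category.assoc a (toUnit V),
            toUnit_unique (a ≫ toUnit V) (toUnit T)]
      _ = a := by rw [h₂, Category.comp_id]
  have point : ∀ {T : Over S} [LocallyOfFiniteType T.hom] (c : T.left), IsClosed ({c} : Set T.left) →
      ∃ γ : 𝟙_ (Over S) ⟶ T, γ.left pt = c := fun {T} _ c hc =>
    ⟨Over.homMk (pointOfClosedPoint T.hom c hc) (pointOfClosedPoint_comp _ _ _),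
      pointOfClosedPoint_apply _ _ _ _⟩
  have ext_pt : ∀ {T : Over S} [LocallyOfFiniteType T.hom] (γ γ' : 𝟙_ (Over S) ⟶ T),
      γ.left pt = γ'.left pt → γ = γ' := fun {T} _ γ γ' h =>
    Over.OverMorphism.ext (ext_of_apply_closedPoint_eq T.hom (Over.w γ) (Over.w γ') h)
  have closed_pt : ∀ {T : Over S} [IsSeparated T.hom] (γ : 𝟙_ (Over S) ⟶ T),
      IsClosed ({γ.left pt} : Set T.left) := fun {T} _ γ => by
    have : IsClosedImmersion γ.left := isClosedImmersion_of_comp_eq_id (Y := S) T.hom γ.left (Over.w γ)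
    simpa using γ.left.isClosedMap _ (isClosed_discrete ({pt} : Set S))
  -- the shear `(a, b) ↦ (a b, b)`
  let Φ : V ⊗ V ⟶ V ⊗ V := lift m (snd V V)
  haveI : IsProper Φ.left := by
    haveI : IsProper (Φ.left ≫ (V ⊗ V).hom) := by rw [Over.w]; infer_instance
    exact IsProper.of_comp Φ.left (V ⊗ V).hom
  let ee : 𝟙_ (Over S) ⟶ V ⊗ V := lift e e
  have hee : lift e e ≫ Φ = lift e e := by
    have h := left_unit e
    rw [Subsingleton.elim (toUnit (𝟙_ (Over S))) (𝟙 _), Category.id_comp] at h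
    simp [Φ, comp_lift, h]
  have hfib : (Φ.left ⁻¹' {ee.left pt}) ⊆ {ee.left pt} := by
    have hclosed : IsClosed (Φ.left ⁻¹' {ee.left pt}) := (closed_pt ee).preimage Φ.left.continuous
    have hclp : Φ.left ⁻¹' {ee.left pt} ∩ closedPoints _ ⊆ {ee.left pt} := by
      rintro c ⟨hc, hcc⟩
      obtain ⟨γ, rfl⟩ := point c hcc
      have hγ : γ ≫ Φ = ee := ext_pt _ _ (by rw [Over.comp_left, Scheme.Hom.comp_apply]; exact hc)
      have hb : γ ≫ snd V V = e := by
        have := congrArg (fun z => z ≫ snd V V) hγ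
        simpa [Φ, ee] using this
      have hab : γ ≫ m = e := by
        have := congrArg (fun z => z ≫ fst V V) hγ
        simpa [Φ, ee] using this
      have hdec : γ = lift (γ ≫ fst V V) (γ ≫ snd V V) := by simp [← comp_lift]
      have ha : γ ≫ fst V V = e := by
        rw [hdec, hb] at hab
        have h := right_unit (γ ≫ fst V V)
        rw [Subsingleton.elim (toUnit (𝟙_ (Over S))) (𝟙 _), Category.id_comp, hab] at h
        exact h.symm
      rw [hdec, ha, hb]
      rfl
    calc Φ.left ⁻¹' {ee.left pt} = closure (Φ.left ⁻¹' {ee.left pt} ∩ closedPoints _) := by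
          rw [JacobsonSpace.closure_inter_closedPoints_eq_closure hclosed.isLocallyClosed,
            hclosed.closure_eq]
      _ ⊆ {ee.left pt} := closure_minimal hclp (closed_pt ee)
  have hΦ : Function.Surjective Φ.left := by
    refine surjective_of_subsingleton_fibre (K := K) (V ⊗ V).hom Φ.left le_rfl (ee.left pt) ?_
    rw [← Scheme.Hom.comp_apply, ← Over.comp_left, hee]
    exact fun a ha b hb => (hfib ha).trans (hfib hb).symm
  -- the graph of the inversion
  let C : Set (V ⊗ V).left := Φ.left ⁻¹' (Set.range (lift (toUnit V ≫ e) (𝟙 V)).left)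
  have hC : IsClosed C := by
    refine IsClosed.preimage Φ.left.continuous ?_
    haveI : IsClosedImmersion (lift (toUnit V ≫ e) (𝟙 V)).left := by
      haveI : IsClosedImmersion ((lift (toUnit V ≫ e) (𝟙 V)).left ≫ (snd V V).left) := by
        rw [← Over.comp_left, lift_snd, Over.id_left]; infer_instance
      haveI : IsSeparated (snd V V).left := inferInstanceAs (IsSeparated (pullback.snd V.hom V.hom))
      exact IsClosedImmersion.of_comp _ (snd V V).left
    exact (lift (toUnit V ≫ e) (𝟙 V)).left.isClosedEmbedding.isClosed_range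
  haveI : UniversallyClosed (snd V V).left := inferInstanceAs (UniversallyClosed (pullback.snd V.hom V.hom))
  haveI : IsProper (fst V V).left := inferInstanceAs (IsProper (pullback.fst V.hom V.hom))
  haveI : LocallyOfFiniteType (snd V V).left := inferInstanceAs (LocallyOfFiniteType (pullback.snd V.hom V.hom))
  have hΦsnd : ∀ c, (snd V V).left (Φ.left c) = (snd V V).left c := fun c => by
    rw [← Scheme.Hom.comp_apply, ← Over.comp_left, lift_snd]
  have hsndC : (snd V V).left '' C = Set.univ := by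
    refine Set.eq_univ_of_forall fun b => ?_
    obtain ⟨c, hc⟩ := hΦ ((lift (toUnit V ≫ e) (𝟙 V)).left b)
    refine ⟨c, ⟨b, hc.symm⟩, ?_⟩
    rw [← hΦsnd, hc, ← Scheme.Hom.comp_apply, ← Over.comp_left, lift_snd, Over.id_left]
    rfl
  obtain ⟨Γl, ι, _, _, hιC, hsurj₂⟩ := exists_integral_closed_surjective (K := K) (V ⊗ V).hom
    (snd V V).left C hC hsndC
  let Γ : Over S := Over.mk (ι ≫ (V ⊗ V).hom)
  let i : Γ ⟶ V ⊗ V := Over.homMk ι rfl
  haveI : IsProper Γ.hom := inferInstanceAs (IsProper (ι ≫ (V ⊗ V).hom))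
  haveI : IsIntegral Γ.left := ‹IsIntegral Γl›
  haveI : JacobsonSpace Γ.left := LocallyOfFiniteType.jacobsonSpace (Y := Spec _) Γ.hom
  let p₁ : Γ ⟶ V := i ≫ fst V V
  let p₂ : Γ ⟶ V := i ≫ snd V V
  -- on `Γ` the product is `e`
  have hprod : i ≫ m = toUnit Γ ≫ e := by
    refine Over.OverMorphism.ext ?_
    haveI : LocallyOfFiniteType ((i ≫ m).left ≫ V.hom) := by rw [Over.w]; infer_instance
    refine ext_of_apply_eq V.hom Set.univ isClosed_univ.isLocallyClosed dense_univ ?_ (by simp only [Over.w])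
    intro c _ hc
    obtain ⟨γ, rfl⟩ := point (T := Γ) c hc
    rw [← Scheme.Hom.comp_apply, ← Scheme.Hom.comp_apply, ← Over.comp_left, ← Over.comp_left]
    obtain ⟨b, hb⟩ := hιC ⟨γ.left pt, rfl⟩
    rw [← Category.assoc γ (toUnit Γ), Subsingleton.elim (γ ≫ toUnit Γ) (𝟙 _), Category.id_comp]
    have h3 : (γ ≫ i ≫ m).left pt = (lift (toUnit V ≫ e) (𝟙 V) ≫ fst V V).left b := by
      rw [Over.comp_left, Over.comp_left, Over.comp_left, Scheme.Hom.comp_apply, Scheme.Hom.comp_apply,
        Scheme.Hom.comp_apply, hb, ← Scheme.Hom.comp_apply Φ.left, ← Over.comp_left, lift_fst]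
      rfl
    rw [h3, lift_fst, Over.comp_left, Scheme.Hom.comp_apply]
    congr 1
    exact Subsingleton.elim (α := ↥S) _ _
  have hp₂ : Function.Surjective p₂.left := hsurj₂
  have hpairs : ∀ (γ : 𝟙_ (Over S) ⟶ Γ), lift (γ ≫ p₁) (γ ≫ p₂) ≫ m = e := fun γ => by
    have : lift (γ ≫ p₁) (γ ≫ p₂) = γ ≫ i := by simp [p₁, p₂, ← comp_lift]
    rw [this, Category.assoc, hprod, ← Category.assoc, Subsingleton.elim (γ ≫ toUnit Γ) (𝟙 _), Category.id_comp]
  -- lifting rational points
  have hlift : ∀ (p : Γ ⟶ V), Function.Surjective p.left → ∀ y : 𝟙_ (Over S) ⟶ V, ∃ γ : 𝟙_ (Over S) ⟶ Γ, γ ≫ p = y := by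
    intro p hp y
    obtain ⟨c, hc⟩ := hp (y.left pt)
    obtain ⟨d, ⟨hd₁, hd₂⟩⟩ := nonempty_inter_closedPoints
      (show (p.left ⁻¹' {y.left pt}).Nonempty from ⟨c, hc⟩)
      ((closed_pt y).preimage p.left.continuous).isLocallyClosed
    obtain ⟨γ, rfl⟩ := point (T := Γ) d hd₂
    exact ⟨γ, ext_pt _ _ (by rw [Over.comp_left, Scheme.Hom.comp_apply]; exact hd₁)⟩
  obtain ⟨γ₀, hγ₀⟩ := hlift p₂ hp₂ e
  have hγ₀' : γ₀ ≫ p₁ = e := by
    have h := hpairs γ₀
    rw [hγ₀] at h
    have h' := right_unit (γ₀ ≫ p₁)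
    rw [Subsingleton.elim (toUnit (𝟙_ (Over S))) (𝟙 _), Category.id_comp, h] at h'
    exact h'.symm
  have hp₁ : Function.Surjective p₁.left := by
    haveI : IsProper p₁.left := by
      haveI : IsProper (p₁.left ≫ V.hom) := by rw [Over.w]; infer_instance
      exact IsProper.of_comp p₁.left V.hom
    haveI : IsProper p₂.left := by
      haveI : IsProper (p₂.left ≫ V.hom) := by rw [Over.w]; infer_instance
      exact IsProper.of_comp p₂.left V.hom
    refine surjective_of_subsingleton_fibre (K := K) V.hom p₁.left ?_ (γ₀.left pt) ?_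
    · haveI : IsDominant p₂.left := ⟨hp₂.denseRange⟩
      obtain ⟨n, k, d, hn, hk, -, hnk⟩ := GrothLib.Dim.exists_dim_genericFibre (K := K) p₂.left V.hom
      rw [hn, hk, hnk]
      exact_mod_cast Nat.le_add_right k d
    · rw [← Scheme.Hom.comp_apply, ← Over.comp_left, hγ₀']
      have hclosed : IsClosed (p₁.left ⁻¹' {e.left pt}) := (closed_pt e).preimage p₁.left.continuous
      have hsub : p₁.left ⁻¹' {e.left pt} ⊆ {γ₀.left pt} := by
        have hcl : p₁.left ⁻¹' {e.left pt} ∩ closedPoints _ ⊆ {γ₀.left pt} := by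
          rintro c ⟨hc, hcc⟩
          obtain ⟨γ, rfl⟩ := point (T := Γ) c hcc
          have ha : γ ≫ p₁ = e := ext_pt _ _ (by rw [Over.comp_left, Scheme.Hom.comp_apply]; exact hc)
          have hb : γ ≫ p₂ = e := by
            have h := hpairs γ
            rw [ha] at h
            have h' := left_unit (γ ≫ p₂)
            rw [Subsingleton.elim (toUnit (𝟙_ (Over S))) (𝟙 _), Category.id_comp, h] at h'
            exact h'.symm
          have : γ ≫ i = γ₀ ≫ i := CartesianMonoidalCategory.hom_ext _ _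
            (by rw [Category.assoc, Category.assoc]; exact ha.trans hγ₀'.symm)
            (by rw [Category.assoc, Category.assoc]; exact hb.trans hγ₀.symm)
          have hγ : γ.left ≫ ι = γ₀.left ≫ ι := congrArg Over.Hom.left this
          rw [Set.mem_singleton_iff, (cancel_mono ι).mp hγ]
        calc p₁.left ⁻¹' {e.left pt} = closure (p₁.left ⁻¹' {e.left pt} ∩ closedPoints _) := by
              rw [JacobsonSpace.closure_inter_closedPoints_eq_closure hclosed.isLocallyClosed,
                hclosed.closure_eq]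
          _ ⊆ {γ₀.left pt} := closure_minimal hcl (closed_pt γ₀)
      exact fun a ha b hb => (hsub ha).trans (hsub hb).symm
  -- `x' ((x a) b) = a b` on `Γ`
  haveI : IsIntegral (Γ ⊗ (V ⊗ V)).left := by
    haveI : IsLocallyNoetherian Γ.left := LocallyOfFiniteType.isLocallyNoetherian Γ.hom
    haveI : IsIntegral (pullback Γ.hom V.hom) := inferInstance
    haveI : LocallyOfFiniteType (pullback.fst Γ.hom V.hom ≫ Γ.hom) := inferInstance
    haveI : IsLocallyNoetherian (pullback Γ.hom V.hom) :=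
      LocallyOfFiniteType.isLocallyNoetherian (pullback.fst Γ.hom V.hom ≫ Γ.hom)
    haveI : IsIntegral (pullback (pullback.snd Γ.hom V.hom) (pullback.fst V.hom V.hom)) := inferInstance
    let I := pullbackLeftPullbackSndIso Γ.hom V.hom (pullback.fst V.hom V.hom)
    haveI : Nonempty (pullback Γ.hom (pullback.fst V.hom V.hom ≫ V.hom) : Scheme.{u}) :=
      ⟨I.hom (Classical.arbitrary _)⟩
    exact (isIntegral_of_isOpenImmersion I.inv : IsIntegral (pullback Γ.hom (pullback.fst V.hom V.hom ≫ V.hom)))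
  let φ : Γ ⊗ (V ⊗ V) ⟶ V :=
    lift (fst Γ (V ⊗ V) ≫ p₁) (lift (lift (fst Γ (V ⊗ V) ≫ p₂) (snd Γ (V ⊗ V) ≫ fst V V) ≫ m) (snd Γ (V ⊗ V) ≫ snd V V) ≫ m) ≫ m
  have hslice : lift (𝟙 Γ) (toUnit Γ ≫ ee) ≫ φ = toUnit Γ ≫ e := by
    simp only [φ, ee, comp_lift_assoc, lift_fst_assoc, lift_snd_assoc, Category.id_comp, Category.assoc,
      lift_fst, lift_snd, right_unit]
    rw [show lift p₁ p₂ = i by simp [p₁, p₂, ← comp_lift], hprod]
  have hφ := eq_snd_comp_of_isAlgClosed φ γ₀ ee e hslice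
  have hφ' : lift (toUnit (V ⊗ V) ≫ γ₀) (𝟙 (V ⊗ V)) ≫ φ = m := by
    simp only [φ, comp_lift_assoc, lift_fst_assoc, lift_snd_assoc, Category.id_comp, Category.assoc,
      hγ₀, hγ₀', left_unit]
    rw [show lift (fst V V) (snd V V) = 𝟙 _ from lift_fst_snd, Category.id_comp]
  rw [hφ'] at hφ
  have hinv : ∀ γ : 𝟙_ (Over S) ⟶ Γ,
      (lift (toUnit V ≫ γ ≫ p₂) (𝟙 V) ≫ m) ≫ (lift (toUnit V ≫ γ ≫ p₁) (𝟙 V) ≫ m) = 𝟙 V := by
    intro γ
    have h := congrArg (fun z => lift (toUnit V ≫ γ) (lift (𝟙 V) (toUnit V ≫ e)) ≫ z) hφ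
    simp only [lift_snd_assoc, h₁, φ, comp_lift_assoc, lift_fst_assoc, lift_snd_assoc, Category.id_comp,
      Category.assoc, lift_fst, lift_snd, right_unit] at h
    simp only [comp_lift_assoc, Category.comp_id, Category.assoc, comp_toUnit_assoc]
    exact h
  obtain ⟨γ, hγ⟩ := hlift p₂ hp₂ x
  obtain ⟨γ', hγ'⟩ := hlift p₁ hp₁ x
  have hl := hinv γ
  have hr := hinv γ'
  rw [hγ] at hl
  rw [hγ'] at hr
  haveI : IsSplitMono (lift (toUnit V ≫ x) (𝟙 V) ≫ m) := ⟨⟨⟨_, hl⟩⟩⟩
  haveI : IsSplitEpi (lift (toUnit V ≫ x) (𝟙 V) ≫ m) := ⟨⟨⟨_, hr⟩⟩⟩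
  haveI := (inferInstance : Mono (lift (toUnit V ≫ x) (𝟙 V) ≫ m))
  exact isIso_of_mono_of_isSplitEpi _

end GrothLib.Rigidity
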