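import Mathlib.AlgebraicGeometry.Morphisms.UniversallyClosed
import Mathlib.AlgebraicGeometry.AffineScheme
import Mathlib.AlgebraicGeometry.Restrict
import Mathlib.AlgebraicGeometry.Cover.Open

/-!
# Rigidity for `ξ_* O_X = O_S`: factorisation through the base on the collapsed locus
-/

universe u

open CategoryTheory Limits AlgebraicGeometry TopologicalSpace

namespace GrothLib.Rigidity

theorem bijective_comp_iso {A B C : CommRingCat.{u}} (f : A ⟶ B) (g : B ⟶ C) (hg : IsIso g)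
    (hf : Function.Bijective f.hom) : Function.Bijective (f ≫ g).hom := by
  rw [CommRingCat.hom_comp, RingHom.coe_comp]
  exact (ConcreteCategory.bijective_of_isIso g).comp hf

theorem injective_comp_iso {A B C : CommRingCat.{u}} (f : A ⟶ B) (g : B ⟶ C) (hg : IsIso g)
    (hf : Function.Injective f.hom) : Function.Injective (f ≫ g).hom := by
  rw [CommRingCat.hom_comp, RingHom.coe_comp]
  exact (ConcreteCategory.bijective_of_isIso g).1.comp hf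

theorem app_bijective_restrict {X S : Scheme.{u}} (ξ : X ⟶ S)
    (h0 : ∀ U : S.Opens, Function.Bijective (ξ.app U).hom) (O : S.Opens)
    (W : (O : Scheme.{u}).Opens) : Function.Bijective ((ξ ∣_ O).app W).hom := by
  rw [morphismRestrict_app]
  exact bijective_comp_iso _ _ (Functor.map_isIso _ _) (h0 _)

/-- `ξ` is an epimorphism if it is surjective with `O_S → ξ_* O_X` injective. -/
theorem hom_ext_of_app_injective {X S Y : Scheme.{u}} (ξ : X ⟶ S) [Surjective ξ]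
    (h0 : ∀ U : S.Opens, Function.Injective (ξ.app U).hom) (k₁ k₂ : S ⟶ Y)
    (h : ξ ≫ k₁ = ξ ≫ k₂) : k₁ = k₂ := by
  have hpt : ∀ s, k₁ s = k₂ s := fun s => by
    obtain ⟨x, rfl⟩ := ξ.surjective s
    rw [← Scheme.Hom.comp_apply, h]
    rfl
  have hloc : ∀ s : S, ∃ U : S.Opens, s ∈ U ∧ U.ι ≫ k₁ = U.ι ≫ k₂ := by
    intro s
    obtain ⟨V, hV, hV0⟩ : ∃ V : Y.Opens, IsAffineOpen V ∧ k₁ s ∈ V := by
      obtain ⟨_, ⟨V, hV, rfl⟩, hV0, -⟩ := Y.isBasis_affineOpens.exists_subset_of_mem_open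
        (Set.mem_univ (k₁ s)) isOpen_univ
      exact ⟨V, hV, hV0⟩
    let U : S.Opens := k₁ ⁻¹ᵁ V
    refine ⟨U, hV0, ?_⟩
    haveI : IsAffine V := hV
    let a := IsOpenImmersion.lift V.ι (U.ι ≫ k₁) (by
      rintro _ ⟨w, rfl⟩
      rw [Scheme.Opens.range_ι]
      exact w.2)
    let b := IsOpenImmersion.lift V.ι (U.ι ≫ k₂) (by
      rintro _ ⟨w, rfl⟩
      rw [Scheme.Opens.range_ι]
      show k₂ w.1 ∈ V
      rw [← hpt]
      exact w.2)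
    have ha : a ≫ V.ι = U.ι ≫ k₁ := IsOpenImmersion.lift_fac _ _ _
    have hb : b ≫ V.ι = U.ι ≫ k₂ := IsOpenImmersion.lift_fac _ _ _
    have hab : (ξ ∣_ U) ≫ a = (ξ ∣_ U) ≫ b := by
      rw [← cancel_mono V.ι, Category.assoc, Category.assoc, ha, hb, morphismRestrict_ι_assoc,
        morphismRestrict_ι_assoc, h]
    have hinj : Function.Injective (ξ ∣_ U).appTop.hom := by
      rw [Scheme.Hom.appTop, morphismRestrict_app]
      exact injective_comp_iso _ _ (Functor.map_isIso _ _) (h0 _)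
    have : a = b := by
      refine ext_of_isAffine (ConcreteCategory.hom_ext _ _ fun t => hinj ?_)
      have := congrArg (fun m => m.appTop t) hab
      simpa only [Scheme.Hom.comp_appTop, CommRingCat.comp_apply] using! this
    rw [← ha, ← hb, this]
  choose U hU hUeq using hloc
  exact Scheme.Cover.hom_ext (S.openCoverOfIsOpenCover U
    (eq_top_iff.mpr fun s _ => Opens.mem_iSup.mpr ⟨s, hU s⟩)) _ _ fun i => hUeq i

theorem exists_open_factor_of_bijective {X S Y : Scheme.{u}} (ξ : X ⟶ S) [UniversallyClosed ξ]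
    (h0 : ∀ U : S.Opens, Function.Bijective (ξ.app U).hom) (f : X ⟶ Y) (s : S) (y : Y)
    (hy : ∀ x, ξ x = s → f x = y) :
    ∃ U : S.Opens, s ∈ U ∧ ∃ k : (U : Scheme.{u}) ⟶ Y, (ξ ⁻¹ᵁ U).ι ≫ f = (ξ ∣_ U) ≫ k := by
  obtain ⟨V, hV, hV0⟩ : ∃ V : Y.Opens, IsAffineOpen V ∧ y ∈ V := by
    obtain ⟨_, ⟨V, hV, rfl⟩, hV0, -⟩ := Y.isBasis_affineOpens.exists_subset_of_mem_open
      (Set.mem_univ y) isOpen_univ
    exact ⟨V, hV, hV0⟩
  have hclosed : IsClosed (ξ '' ((f ⁻¹ᵁ V : X.Opens) : Set X)ᶜ) :=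
    ξ.isClosedMap _ (f ⁻¹ᵁ V).isOpen.isClosed_compl
  let U : S.Opens := ⟨(ξ '' ((f ⁻¹ᵁ V : X.Opens) : Set X)ᶜ)ᶜ, hclosed.isOpen_compl⟩
  refine ⟨U, ?_, ?_⟩
  · rintro ⟨x, hx, hxs⟩
    refine hx ?_
    show f x ∈ V
    rw [hy x hxs]
    exact hV0
  have hsub : ∀ x, ξ x ∈ U → f x ∈ V := fun x hx => by
    by_contra h
    exact hx ⟨x, h, rfl⟩
  haveI : IsAffine V := hV
  let a := IsOpenImmersion.lift V.ι ((ξ ⁻¹ᵁ U).ι ≫ f) (by
    rintro _ ⟨x, rfl⟩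
    rw [Scheme.Opens.range_ι]
    exact hsub x.1 x.2)
  have ha : a ≫ V.ι = (ξ ⁻¹ᵁ U).ι ≫ f := IsOpenImmersion.lift_fac _ _ _
  haveI : IsIso (ξ ∣_ U).appTop :=
    (ConcreteCategory.isIso_iff_bijective _).mpr (app_bijective_restrict ξ h0 U ⊤)
  refine ⟨(U : Scheme.{u}).toSpecΓ ≫ Spec.map (a.appTop ≫ inv (ξ ∣_ U).appTop) ≫
    (Scheme.isoSpec V).inv ≫ V.ι, ?_⟩
  rw [Scheme.toSpecΓ_naturality_assoc, ← Spec.map_comp_assoc, Category.assoc, IsIso.inv_hom_id,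
    Category.comp_id, ← Scheme.toSpecΓ_naturality_assoc, ← Scheme.isoSpec_hom,
    Iso.hom_inv_id_assoc, ha]

/-- Over the collapsed locus the morphism factors through the base. -/
theorem exists_factor_on_collapsed {X S Y : Scheme.{u}} (ξ : X ⟶ S) [UniversallyClosed ξ] [Surjective ξ]
    (h0 : ∀ U : S.Opens, Function.Bijective (ξ.app U).hom) (f : X ⟶ Y) :
    ∃ W : S.Opens, (∀ s, (∃ y, ∀ x, ξ x = s → f x = y) ↔ s ∈ W) ∧
      ∃ k : (W : Scheme.{u}) ⟶ Y, (ξ ⁻¹ᵁ W).ι ≫ f = (ξ ∣_ W) ≫ k := by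
  have hloc : ∀ s : {s : S // ∃ y, ∀ x, ξ x = s → f x = y}, ∃ U : S.Opens, s.1 ∈ U ∧
      ∃ k : (U : Scheme.{u}) ⟶ Y, (ξ ⁻¹ᵁ U).ι ≫ f = (ξ ∣_ U) ≫ k := fun s => by
    obtain ⟨y, hy⟩ := s.2
    exact exists_open_factor_of_bijective ξ h0 f s.1 y hy
  choose U hU k hk using hloc
  set W : S.Opens := ⨆ s, U s with hW
  have hle : ∀ s, U s ≤ W := fun s => le_iSup U s
  let 𝒰 := (W : Scheme.{u}).openCoverOfIsOpenCover (fun s => W.ι ⁻¹ᵁ U s) (by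
    rw [IsOpenCover, eq_top_iff]
    intro w _
    obtain ⟨s, hs⟩ := Opens.mem_iSup.mp w.2
    exact Opens.mem_iSup.mpr ⟨s, hs⟩)
  let q : ∀ s, ((W.ι ⁻¹ᵁ U s : (W : Scheme.{u}).Opens) : Scheme.{u}) ⟶ (U s : Scheme.{u}) :=
    fun s => IsOpenImmersion.lift (U s).ι ((W.ι ⁻¹ᵁ U s).ι ≫ W.ι) (by
      rintro _ ⟨w, rfl⟩
      rw [Scheme.Opens.range_ι]
      exact w.2)
  have hq : ∀ s, q s ≫ (U s).ι = (W.ι ⁻¹ᵁ U s).ι ≫ W.ι := fun s => IsOpenImmersion.lift_fac _ _ _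
  have hfac : ∀ {P : Scheme.{u}} (j : P ⟶ S) [IsOpenImmersion j] (s : _) (m : P ⟶ (U s : Scheme.{u})),
      m ≫ (U s).ι = j → (ξ ∣_ j.opensRange) ≫ j.isoOpensRange.inv ≫ m ≫ k s =
        (ξ ⁻¹ᵁ j.opensRange).ι ≫ f := by
    intro P j _ s m hm
    have hm' : (j.isoOpensRange.inv ≫ m) ≫ (U s).ι = j.opensRange.ι := by
      rw [Category.assoc, hm, Scheme.Hom.isoOpensRange_inv_comp]
    let l : (ξ ⁻¹ᵁ j.opensRange : Scheme.{u}) ⟶ (ξ ⁻¹ᵁ U s : Scheme.{u}) :=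
      (isPullback_morphismRestrict ξ (U s)).flip.lift (ξ ⁻¹ᵁ j.opensRange).ι
        ((ξ ∣_ j.opensRange) ≫ j.isoOpensRange.inv ≫ m) (by
          simp only [Category.assoc] at hm'
          simp only [Category.assoc, hm', morphismRestrict_ι])
    have hl1 : l ≫ (ξ ⁻¹ᵁ U s).ι = (ξ ⁻¹ᵁ j.opensRange).ι := IsPullback.lift_fst _ _ _ _
    have hl2 : l ≫ (ξ ∣_ U s) = (ξ ∣_ j.opensRange) ≫ j.isoOpensRange.inv ≫ m :=
      IsPullback.lift_snd _ _ _ _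
    rw [← hl1, Category.assoc, hk, ← Category.assoc l, hl2]
    simp only [Category.assoc]
  let K : (W : Scheme.{u}) ⟶ Y := 𝒰.glueMorphisms (fun s => q s ≫ k s) (by
    intro s t
    let j := pullback.fst (𝒰.f s) (𝒰.f t) ≫ 𝒰.f s ≫ W.ι
    haveI : Surjective (ξ ∣_ j.opensRange) :=
      MorphismProperty.of_isPullback (isPullback_morphismRestrict ξ _).flip ‹Surjective ξ›
    rw [← cancel_epi j.isoOpensRange.inv]
    refine hom_ext_of_app_injective (ξ ∣_ j.opensRange)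
      (fun V => (app_bijective_restrict ξ h0 _ V).1) _ _ ?_
    rw [← Category.assoc (pullback.fst _ _), hfac j s (pullback.fst _ _ ≫ q s) (by
        rw [Category.assoc]
        exact congrArg (pullback.fst (𝒰.f s) (𝒰.f t) ≫ ·) (hq s)),
      ← Category.assoc (pullback.snd _ _), hfac j t (pullback.snd _ _ ≫ q t) (by
        show _ = pullback.fst (𝒰.f s) (𝒰.f t) ≫ 𝒰.f s ≫ W.ι
        rw [Category.assoc, pullback.condition_assoc]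
        exact congrArg (pullback.snd (𝒰.f s) (𝒰.f t) ≫ ·) (hq t))])
  have hK : (ξ ⁻¹ᵁ W).ι ≫ f = (ξ ∣_ W) ≫ K := by
    refine Scheme.Cover.hom_ext ((ξ ⁻¹ᵁ W : Scheme.{u}).openCoverOfIsOpenCover
      (fun s => (ξ ∣_ W) ⁻¹ᵁ (W.ι ⁻¹ᵁ U s)) ?_) _ _ fun s => ?_
    · rw [IsOpenCover, eq_top_iff]
      intro w _
      obtain ⟨s, hs⟩ := Opens.mem_iSup.mp ((ξ ∣_ W) w).2
      exact Opens.mem_iSup.mpr ⟨s, hs⟩
    · simp only [Scheme.openCoverOfIsOpenCover_f]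
      show ((ξ ∣_ W) ⁻¹ᵁ (W.ι ⁻¹ᵁ U s)).ι ≫ (ξ ⁻¹ᵁ W).ι ≫ f =
        ((ξ ∣_ W) ⁻¹ᵁ (W.ι ⁻¹ᵁ U s)).ι ≫ (ξ ∣_ W) ≫ K
      have hcomm : (((ξ ∣_ W) ⁻¹ᵁ (W.ι ⁻¹ᵁ U s)).ι ≫ (ξ ⁻¹ᵁ W).ι) ≫ ξ =
          (((ξ ∣_ W) ∣_ (W.ι ⁻¹ᵁ U s)) ≫ q s) ≫ (U s).ι := by
        rw [Category.assoc, Category.assoc, hq, morphismRestrict_ι_assoc, morphismRestrict_ι]
      let l := (isPullback_morphismRestrict ξ (U s)).flip.lift _ _ hcomm
      have hl1 : l ≫ (ξ ⁻¹ᵁ U s).ι = ((ξ ∣_ W) ⁻¹ᵁ (W.ι ⁻¹ᵁ U s)).ι ≫ (ξ ⁻¹ᵁ W).ι :=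
        IsPullback.lift_fst _ _ _ _
      have hl2 : l ≫ (ξ ∣_ U s) = ((ξ ∣_ W) ∣_ (W.ι ⁻¹ᵁ U s)) ≫ q s := IsPullback.lift_snd _ _ _ _
      rw [← reassoc_of% hl1, hk, ← Category.assoc l, hl2, ← morphismRestrict_ι_assoc]
      have hglue : (W.ι ⁻¹ᵁ U s).ι ≫ K = q s ≫ k s := 𝒰.ι_glueMorphisms _ _ s
      rw [hglue, Category.assoc]
  refine ⟨W, fun s => ⟨fun hs => hle ⟨s, hs⟩ (hU ⟨s, hs⟩), fun hs => ⟨K ⟨s, hs⟩, fun x hx => ?_⟩⟩, K, hK⟩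
  have hxW : x ∈ ξ ⁻¹ᵁ W := by show ξ x ∈ W; rw [hx]; exact hs
  have h := congrArg (fun m : (ξ ⁻¹ᵁ W : Scheme.{u}) ⟶ Y => m ⟨x, hxW⟩) hK
  change f x = K ((ξ ∣_ W) ⟨x, hxW⟩) at h
  rw [h]
  congr 1
  exact Subtype.ext (by rw [morphismRestrict_base]; exact hx)

end GrothLib.Rigidity
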